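import Cfsg.Agent.H678.DG.FiPts
import Cfsg.Agent.Characters.GaloisIrr

/-!
# The constituents of a rank 3 permutation character with different degrees are rational; the character of
degree 106743 of `Fi23`
-/

set_option autoImplicit false

namespace Cfsg.Agent.H293.F23B

open Cfsg MulAction Cfsg.Agent.Characters Cfsg.Agent.Characters.Core Cfsg.Agent.H672.SporIM
  Cfsg.Agent.H690.Spor.RankThree Cfsg.Agent.H665.NoPQ Cfsg.Agent.H33 Cfsg.Agent.Blocks.Knorr

/-- a rational irreducible character of degree `d` -/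
def RatDeg (G : Type*) [Group G] (d : ℕ) : Prop :=
  ∃ χ : G → ℂ, IsIrrCharacter G χ ∧ (∀ g, ∃ q : ℚ, χ g = q) ∧ χ 1 = (d : ℕ)

/-- a character is determined by its degree in a sum `1 + χ₁ + χ₂` -/
theorem eq_of_sum {G : Type*} [Group G] [Finite G] {χ₁ χ₂ ψ₁ ψ₂ : G → ℂ} (h1 : IsIrrCharacter G χ₁)
    (h2 : IsIrrCharacter G χ₂) (k1 : IsIrrCharacter G ψ₁) (k2 : IsIrrCharacter G ψ₂)
    (h : ∀ x, χ₁ x + χ₂ x = ψ₁ x + ψ₂ x) (hd : χ₁ 1 ≠ ψ₂ 1) (hd1 : ψ₁ 1 ≠ ψ₂ 1) : χ₂ = ψ₂ := by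
  classical
  have := Fintype.ofFinite G
  have e : χ₁ + χ₂ = ψ₁ + ψ₂ := funext h
  have h3 := congrArg (fun f => classInner f ψ₂) e
  simp only [classInner_add_left] at h3
  rw [classInner_irr_ne h1 k2 (fun h => hd (congrFun h 1)), classInner_irr_ne k1 k2 (fun h => hd1 (congrFun h 1)),
    classInner_irr_self k2, zero_add, zero_add] at h3
  by_contra hne
  rw [classInner_irr_ne h2 k2 hne] at h3
  exact zero_ne_one h3

theorem fixedBy_pow {G X : Type*} [Group G] [MulAction G X] [Finite G] {m : ℕ} (hm : m.Coprime (Nat.card G)) (g : G) :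
    fixedBy X (g ^ m) = fixedBy X g := by
  have key : ∀ (z : G) (n : ℕ) (x : X), z • x = x → z ^ n • x = x := by
    intro z n x hx
    induction n with
    | zero => rw [pow_zero, one_smul]
    | succ n ih => rw [pow_succ, mul_smul, hx, ih]
  obtain ⟨l, hl⟩ : ∃ l : ℕ, (g ^ m) ^ l = g := by
    have h1 : (orderOf g).Coprime m := (hm.coprime_dvd_right (orderOf_dvd_natCard g)).symm
    obtain ⟨l, hl⟩ := exists_pow_eq_self_of_coprime h1.symm
    exact ⟨l, hl⟩
  ext x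
  rw [mem_fixedBy, mem_fixedBy]
  constructor
  · intro h
    have := key (g ^ m) l x h
    rwa [hl] at this
  · exact key g m x

theorem rat_of_frame {G X : Type*} [Group G] [MulAction G X] [Finite G] {χ₁ χ₂ : G → ℂ} (h1 : IsIrrCharacter G χ₁)
    (h2 : IsIrrCharacter G χ₂) (hf : ∀ x : G, (Nat.card (fixedBy X x) : ℂ) = 1 + χ₁ x + χ₂ x) (hd : χ₁ 1 ≠ χ₂ 1) (g : G) :
    ∃ q : ℚ, χ₂ g = q := by
  rw [GaloisBasic.exists_rat_iff (isIrr_isCharacter h2) g]
  intro m hm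
  have k1 : IsIrrCharacter G (fun g => χ₁ (g ^ m)) := GaloisIrr.isIrr_pow hm h1
  have k2 : IsIrrCharacter G (fun g => χ₂ (g ^ m)) := GaloisIrr.isIrr_pow hm h2
  have h := (eq_of_sum h1 h2 k1 k2 (fun x => ?_) ?_ ?_).symm
  · exact congrFun h g
  · have e1 := hf x
    have e2 := hf (x ^ m)
    rw [fixedBy_pow hm] at e2
    show χ₁ x + χ₂ x = χ₁ (x ^ m) + χ₂ (x ^ m)
    linear_combination e2 - e1
  · show χ₁ 1 ≠ χ₂ (1 ^ m)
    rwa [one_pow]
  · show χ₁ (1 ^ m) ≠ χ₂ (1 ^ m)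
    rwa [one_pow]

/-- **Rational characters of a rank 3 permutation character.** -/
theorem ratDeg_of_R3 {G X : Type*} [Group G] [MulAction G X] [Finite G] {R : X → X → Prop} {k l : ℕ}
    (h : R3 G X R k l) {n s P : ℕ} (hn : Nat.card G = n) (hs : k + l = s) (hP : (1 + k + l) * k * l = P)
    (L : List (ℕ × ℕ)) (Q : List ℕ) (hL : ∀ x ∈ L, x.1.Prime) (hQ : ∀ x ∈ Q, x.Prime) (hQn : Q.Nodup)
    (hPM : P = (L.map fun x => x.1 ^ x.2).prod * (L.map fun x => x.1 ^ x.2).prod * Q.prod)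
    (hodd : Odd s ∨ ¬ s / 2 ∣ n) (sols : List (ℕ × ℕ))
    (hchk : (divList L).all (chkD s P n sols) = true) :
    ∃ x ∈ sols, RatDeg G x.1 ∧ RatDeg G x.2 := by
  classical
  have hq := squarefree_prod hQ hQn
  have hfX : Finite X := Nat.finite_of_card_ne_zero (by rw [h.cardn]; omega)
  have := Fintype.ofFinite X
  obtain ⟨χ₁, χ₂, f, g, D, h1, h2, hfr, h3, h4, h5⟩ := h.frame
  have hd1 : charDegree (χ₁ : G → ℂ) = f := Cfsg.Agent.H670.PSing.charDegree_eq_of h1
  have hd2 : charDegree (χ₂ : G → ℂ) = g := Cfsg.Agent.H670.PSing.charDegree_eq_of h2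
  have hf : f ∣ n := by rw [← hd1, ← hn]; exact charDegree_dvd χ₁.2
  have hg : g ∣ n := by rw [← hd2, ← hn]; exact charDegree_dvd χ₂.2
  have hne : f ≠ g := by
    rintro rfl
    rcases hodd with h6 | h6
    · rw [← hs, ← h3] at h6
      exact (Nat.not_even_iff_odd.2 h6) ⟨f, rfl⟩
    · apply h6
      rw [← hs, ← h3, show (f + f) / 2 = f by omega]
      exact hf
  obtain ⟨d, rfl⟩ := h5 hne
  have hM : 0 < (L.map fun x => x.1 ^ x.2).prod := by
    apply Nat.pos_of_ne_zero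
    intro h0
    rw [h0, zero_mul, zero_mul] at hPM
    rw [hPM] at hP
    have := Nat.mul_pos (Nat.mul_pos (show 0 < 1 + k + l by omega) h.k0) h.l0
    omega
  have hP0 : 0 < P := by
    rw [← hP]
    exact Nat.mul_pos (Nat.mul_pos (by omega) h.k0) h.l0
  have hd : 0 < d := by
    apply Nat.pos_of_ne_zero
    rintro rfl
    rw [mul_zero, mul_zero, hP] at h4
    omega
  have h6 : f * g * (d * d) = P := by rw [h4, hP]
  have h7 : d ∣ (L.map fun x => x.1 ^ x.2).prod := by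
    apply dvd_of_sq_dvd hq hM
    rw [← hPM, ← h6]
    exact Dvd.intro_left _ rfl
  have h8 := List.all_eq_true.1 hchk d (mem_divList hL h7)
  have hne' : (χ₁ : G → ℂ) 1 ≠ (χ₂ : G → ℂ) 1 := by
    rw [h1, h2]
    exact_mod_cast hne
  have r2 : RatDeg G g := ⟨χ₂, χ₂.2, rat_of_frame χ₁.2 χ₂.2 hfr hne', h2⟩
  have r1 : RatDeg G f := ⟨χ₁, χ₁.2, rat_of_frame χ₂.2 χ₁.2 (fun x => by rw [hfr]; ring) hne'.symm, h1⟩
  rcases lt_or_gt_of_ne hne with hlt | hlt
  · exact ⟨(g, f), chkD_spec h8 hlt (by omega) (by rw [mul_comm g f]; exact h6) hd hg hf, r2, r1⟩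
  · exact ⟨(f, g), chkD_spec h8 hlt (by omega) h6 hd hf hg, r1, r2⟩

open Cfsg.Agent.H678.DG.FiPts in
/-- The rational character of degree 106743 of `Fi23`. -/
theorem exists_106743 : RatDeg Spor.Fi23 106743 := by
  have hc := Cfsg.Agent.NotCT.Orders.fi23 (K := Spor.Fi23) ⟨MulEquiv.refl _⟩
  have : Finite Spor.Fi23 := Nat.finite_of_card_ne_zero (by rw [hc]; norm_num)
  obtain ⟨X, i, k, m, R, hR, h1, h2, h3⟩ := exists_R3
  obtain ⟨x, hx, hd⟩ : ∃ x ∈ [(106743, 30888)], RatDeg Spor.Fi23 x.1 ∧ RatDeg Spor.Fi23 x.2 := by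
    rcases subdeg h1 h2 h3 with ⟨rfl, rfl⟩ | ⟨rfl, rfl⟩
    · exact ratDeg_of_R3 hR hc rfl (P := 427301280806400) (by norm_num) [(2, 4), (3, 4), (5, 1), (13, 1)]
        [2, 7, 11, 17, 23] (by simp only [List.forall_mem_cons]; norm_num)
        (by simp only [List.forall_mem_cons]; norm_num) (by decide) (by norm_num) (Or.inl (by decide)) [(106743, 30888)]
        (by decide +kernel)
    · exact ratDeg_of_R3 hR hc rfl (P := 427301280806400) (by norm_num) [(2, 4), (3, 4), (5, 1), (13, 1)]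
        [2, 7, 11, 17, 23] (by simp only [List.forall_mem_cons]; norm_num)
        (by simp only [List.forall_mem_cons]; norm_num) (by decide) (by norm_num) (Or.inl (by decide)) [(106743, 30888)]
        (by decide +kernel)
  rw [List.mem_singleton] at hx
  subst hx
  exact hd.1

end Cfsg.Agent.H293.F23B
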