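import Cfsg.Agent.H293.F23B.Col
import Cfsg.Agent.H293.F23B.R3Rat
import Cfsg.Agent.H695.K4.Defs
import Cfsg.Agent.H740.K4.Four
import Cfsg.Agent.H740.K4.Equiv

/-!
# K4 rows (S4947, S4547): the Fischer group `Fi23` (helper293)

Three rational irreducible characters of odd degrees divisible by 23: 106743 (rank 3 on 137632 points), 812889 and
29354325 (rank 16 on the 195747435 maximal sets of commuting transpositions, collapsed matrix).
-/

set_option autoImplicit false

namespace Cfsg.Agent.H293.F23B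

open Cfsg Cfsg.Agent.H601.K4 Cfsg.Agent.H740.K4

universe u

theorem card_fi23' : Nat.card Spor.Fi23 = 4089470473293004800 := Fischer.Fi23Simple.card_Fi23

/-- The three characters. -/
theorem exists_three : ∃ χ : Fin 3 → Spor.Fi23 → ℂ, (∀ i, IsIrrCharacter Spor.Fi23 (χ i)) ∧
    (∀ i, χ i 1 = ((![106743, 812889, 29354325] : Fin 3 → ℕ) i : ℕ)) ∧ ∀ i g, ∃ q : ℚ, χ i g = q := by
  obtain ⟨a, ha, haq, ha1⟩ := exists_106743
  obtain ⟨b, hb, hbq, hb1⟩ := exists_812889
  obtain ⟨c, hc, hcq, hc1⟩ := exists_29354325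
  refine ⟨![a, b, c], ?_, ?_, ?_⟩
  · intro i
    fin_cases i <;> assumption
  · intro i
    fin_cases i <;> assumption
  · intro i
    fin_cases i <;> assumption

theorem dvd_tab : (23 ^ 1 ∣ 4089470473293004800) ∧ ¬ (23 ^ (1 + 1) ∣ 4089470473293004800) ∧
    Even 4089470473293004800 := by decide

/-- **Row (A) of S4547 for `Fi23`**, model. -/
theorem good5_model : Good5 Spor.Fi23 := by
  have hfin : Finite Spor.Fi23 := Nat.finite_of_card_ne_zero (by rw [card_fi23']; norm_num)
  obtain ⟨χ, h1, h2, h3⟩ := exists_three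
  refine good5_of_defect_zero (p := 23) (n := 1) (χ := χ) (d := ![106743, 812889, 29354325]) ?_ (by norm_num)
    (by decide) one_ne_zero ?_ ?_ h1 h2 h3 (by decide) (by decide) (by decide) (by decide)
  · rw [card_fi23']
    exact dvd_tab.2.2
  · rw [card_fi23']
    exact dvd_tab.1
  · rw [card_fi23']
    exact dvd_tab.2.1

/-- **Row (A) of S4547 for `Fi23`.** -/
theorem good5 {S : Type u} [Group S] (h : Spor.IsoFi23 S) : Good5 S := by
  obtain ⟨e⟩ := h
  exact good5_of_equiv e good5_model

theorem odd5 {S : Type u} [Group S] (h : Spor.IsoFi23 S) : Odd5 S := (good5 h).odd5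

/-- The form of the plan. -/
theorem threeSig_model : H695.K4.ThreeSig Spor.Fi23 := by
  have hfin : Finite Spor.Fi23 := Nat.finite_of_card_ne_zero (by rw [card_fi23']; norm_num)
  obtain ⟨χ, h1, h2, h3⟩ := exists_three
  have hdeg : ∀ i, charDegree (χ i) = (![106743, 812889, 29354325] : Fin 3 → ℕ) i := fun i =>
    Cfsg.Agent.Blocks.Basic.charDegree_of_eq (h2 i)
  refine ⟨23, by norm_num, by rw [card_fi23']; exact dvd_tab.2.1, χ, ?_, ?_⟩
  · intro i j hij
    have h4 := hdeg i
    rw [hij, hdeg j] at h4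
    clear hij
    fin_cases i <;> fin_cases j <;> first | rfl | exact absurd h4 (by decide)
  · intro i
    have h4 : Odd (charDegree (χ i)) := by
      rw [hdeg i]
      revert i
      decide
    have h5 := good_of_rat (h1 i) (h3 i) h4
    refine ⟨h5.odd, ?_, h5.sig⟩
    rw [hdeg i]
    clear h5 h4
    fin_cases i <;> decide

end Cfsg.Agent.H293.F23B
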