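import Cfsg.Agent.H707.Odd.EigenDeg

/-!
# Rational irreducible characters from a simple eigenvalue of a collapsed matrix (double coset version)

`K` is a subgroup of `G`, `κ` labels the double cosets `K γᵢ K`, `T` is a finite set of indices of elements `z q` with
`z q * z q = 1`, and the number of `q ∈ T` with `κ (x * z q) = j` is `M (κ x) j`. An eigenvector `a` of `M` with
a simple eigenvalue and `a 0 = 1` gives a rational irreducible character of degree `∑ kᵢ / ∑ kᵢ aᵢ²`.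
-/

set_option autoImplicit false

namespace Cfsg.Agent.H293.F23B

open Cfsg Cfsg.Agent.H707.OddLift Cfsg.Agent.H707.Eigen Cfsg.Agent.H636.Gow Cfsg.Agent.H707.Odd

universe u

section Sph

variable {G : Type u} [Group G] [Finite G] {X : Type*} [Fintype X] [MulAction G X]

/-- `H707.Odd.ratOdd_of_spherical` with the degree. -/
theorem exists_of_spherical (htr : ∀ x y : X, ∃ g : G, g • x = y) (V : Submodule ℚ (X → ℚ))
    (hV : ∀ (g : G), ∀ f ∈ V, (fun x => f (g • x)) ∈ V) (Q : Subgroup G) (x₀ : X)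
    (h₀ : ∀ f ∈ V, ∀ q ∈ Q, f (q • x₀) = f x₀) (e₀ : X → ℚ) (he : e₀ ∈ V) (heQ : ∀ q ∈ Q, ∀ x, e₀ (q • x) = e₀ x)
    (he1 : e₀ x₀ = 1) (hone : ∀ f ∈ V, (∀ q ∈ Q, ∀ x, f (q • x) = f x) → ∃ c : ℚ, f = c • e₀)
    (d : ℕ) (hsum : (d : ℚ) * ∑ x, e₀ x ^ 2 = Fintype.card X) :
    ∃ χ : G → ℂ, IsIrrCharacter G χ ∧ (∀ g, ∃ q : ℚ, χ g = q) ∧ χ 1 = (d : ℕ) := by
  let ρ : Representation ℚ G V :=
    { toFun := fun g =>
        { toFun := fun φ => ⟨fun x => (φ : X → ℚ) (g⁻¹ • x), hV _ φ φ.2⟩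
          map_add' := fun _ _ => rfl
          map_smul' := fun _ _ => rfl }
      map_one' := by
        refine LinearMap.ext fun φ => Subtype.ext (funext fun x => ?_)
        show (φ : X → ℚ) ((1 : G)⁻¹ • x) = (φ : X → ℚ) x
        rw [inv_one, one_smul]
      map_mul' := fun g h => by
        refine LinearMap.ext fun φ => Subtype.ext (funext fun x => ?_)
        show (φ : X → ℚ) ((g * h)⁻¹ • x) = (φ : X → ℚ) (h⁻¹ • g⁻¹ • x)
        rw [mul_inv_rev, mul_smul] }
  have hρ : ∀ g (φ : V) x, ((ρ g φ : V) : X → ℚ) x = (φ : X → ℚ) (g⁻¹ • x) := fun _ _ _ => rfl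
  let e : V := ⟨e₀, he⟩
  have hne : e ≠ 0 := by
    intro h
    have h1 : e₀ x₀ = 0 := congrArg (fun φ : V => (φ : X → ℚ) x₀) h
    rw [he1] at h1
    exact one_ne_zero h1
  obtain ⟨χ, hχ, hrat, hdeg⟩ := exists_of_eigen ρ Q (fun _ => 1) e hne
    (by
      intro q hq
      rw [one_smul]
      refine Subtype.ext (funext fun x => ?_)
      rw [hρ]
      exact heQ _ (Q.inv_mem hq) x)
    (by
      intro φ hφ
      obtain ⟨c, hc⟩ := hone φ φ.2 (by
        intro q hq x
        have h1 := hφ q⁻¹ (Q.inv_mem hq)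
        rw [one_smul] at h1
        have h2 := congrArg (fun ψ : V => (ψ : X → ℚ) x) h1
        simp only [hρ, inv_inv] at h2
        exact h2)
      exact ⟨c, Subtype.ext hc⟩)
  obtain ⟨N, hN⟩ : ∃ N : Submodule ℚ V, N = Submodule.span ℚ (Set.range fun g => ρ g e) := ⟨_, rfl⟩
  rw [← hN] at hdeg
  have heN : e ∈ N := by
    rw [hN]
    exact Submodule.subset_span ⟨1, by show ρ 1 e = e; rw [map_one]; rfl⟩
  have hNinv : ∀ g, ∀ v ∈ N, ρ g v ∈ N := by
    intro g v hv
    rw [hN] at hv ⊢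
    induction hv using Submodule.span_induction with
    | mem x hx =>
      obtain ⟨h, rfl⟩ := hx
      refine Submodule.subset_span ⟨g * h, ?_⟩
      simp only [map_mul, Module.End.mul_apply]
    | zero => rw [map_zero]; exact Submodule.zero_mem _
    | add x y _ _ hx hy => rw [map_add]; exact Submodule.add_mem _ hx hy
    | smul c x _ hx => rw [map_smul]; exact Submodule.smul_mem _ c hx
  have hfin := finrank_mul_sum_sq htr (N.map V.subtype)
    (by
      rintro g f ⟨φ, hφ, rfl⟩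
      refine ⟨ρ g⁻¹ φ, hNinv _ φ hφ, ?_⟩
      funext x
      show (φ : X → ℚ) ((g⁻¹)⁻¹ • x) = (φ : X → ℚ) (g • x)
      rw [inv_inv])
    Q x₀
    (by
      rintro f ⟨φ, hφ, rfl⟩ q hq
      exact h₀ φ φ.2 q hq)
    e₀ ⟨e, heN, rfl⟩ heQ he1
    (by
      rintro f ⟨φ, hφ, rfl⟩ h
      exact hone φ φ.2 h)
  rw [LinearEquiv.finrank_eq (Submodule.equivMapOfInjective V.subtype V.injective_subtype N).symm, ← hsum] at hfin
  have hs0 : ∑ x, e₀ x ^ 2 ≠ 0 := by
    have h1 : e₀ x₀ ^ 2 ≤ ∑ x, e₀ x ^ 2 := Finset.single_le_sum (fun _ _ => sq_nonneg _) (Finset.mem_univ x₀)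
    rw [he1, one_pow] at h1
    positivity
  have hfd : (Module.finrank ℚ N : ℚ) = d := mul_right_cancel₀ hs0 hfin
  have hfd' : Module.finrank ℚ N = d := by exact_mod_cast hfd
  rw [hfd'] at hdeg
  exact ⟨χ, hχ, hrat, hdeg⟩

end Sph

section Main

variable {G : Type u} [Group G] [Finite G]

/-- The collapsed data. -/
structure Col (K : Subgroup G) {n : ℕ} (κ : G → Fin (n + 1)) (γ : Fin (n + 1) → G) {ι : Type} (T : Finset ι)
    (z : ι → G) (M : Fin (n + 1) → Fin (n + 1) → ℕ) : Prop where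
  γ0 : γ 0 = 1
  κγ : ∀ i, κ (γ i) = i
  κl : ∀ h ∈ K, ∀ x, κ (h * x) = κ x
  κr : ∀ x, ∀ k ∈ K, κ (x * k) = κ x
  κs : ∀ x, ∃ h ∈ K, ∃ k ∈ K, x = h * γ (κ x) * k
  zz : ∀ q ∈ T, z q * z q = 1
  cnt : ∀ x j, (T.filter fun q => κ (x * z q) = j).card = M (κ x) j

variable {K : Subgroup G} {n : ℕ} {κ : G → Fin (n + 1)} {γ : Fin (n + 1) → G} {ι : Type} {T : Finset ι}
  {z : ι → G} {M : Fin (n + 1) → Fin (n + 1) → ℕ}

omit [Finite G] in
theorem Col.κ_zero (D : Col K κ γ T z M) (x : G) : κ x = 0 ↔ x ∈ K := by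
  constructor
  · intro h
    obtain ⟨a, ha, b, hb, hx⟩ := D.κs x
    rw [h, D.γ0, mul_one] at hx
    rw [hx]
    exact mul_mem ha hb
  · intro h
    have h1 := D.κr 1 x h
    rw [one_mul] at h1
    rw [h1, ← D.γ0, D.κγ]

variable [Fintype G]

/-- double counting -/
theorem Col.sym (D : Col K κ γ T z M) (i j : Fin (n + 1)) :
    (Finset.univ.filter fun x => κ x = i).card * M i j = (Finset.univ.filter fun x => κ x = j).card * M j i := by
  classical
  have h1 : ∀ i j : Fin (n + 1), (Finset.univ.filter fun x => κ x = i).card * M i j =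
      ((Finset.univ ×ˢ T).filter fun p : G × ι => κ p.1 = i ∧ κ (p.1 * z p.2) = j).card := by
    intro i j
    rw [Finset.card_filter, Finset.card_filter, Finset.sum_product, Finset.sum_mul]
    refine Finset.sum_congr rfl fun x _ => ?_
    by_cases h : κ x = i
    · rw [if_pos h, one_mul, ← h, ← D.cnt x j, Finset.card_filter]
      refine Finset.sum_congr rfl fun q _ => ?_
      simp only [true_and]
    · rw [if_neg h, zero_mul]
      symm
      apply Finset.sum_eq_zero
      intro q _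
      rw [if_neg (fun h' => h h'.1)]
  rw [h1 i j, h1 j i]
  refine Finset.card_bij' (fun p _ => (p.1 * z p.2, p.2)) (fun p _ => (p.1 * z p.2, p.2)) ?_ ?_ ?_ ?_
  · rintro ⟨x, q⟩ h
    simp only [Finset.mem_filter, Finset.mem_product, Finset.mem_univ, true_and] at h ⊢
    refine ⟨h.1, h.2.2, ?_⟩
    rw [mul_assoc, D.zz q h.1, mul_one]
    exact h.2.1
  · rintro ⟨x, q⟩ h
    simp only [Finset.mem_filter, Finset.mem_product, Finset.mem_univ, true_and] at h ⊢
    refine ⟨h.1, h.2.2, ?_⟩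
    rw [mul_assoc, D.zz q h.1, mul_one]
    exact h.2.1
  · rintro ⟨x, q⟩ h
    simp only [Finset.mem_filter, Finset.mem_product, Finset.mem_univ, true_and] at h
    simp only [Prod.mk.injEq, and_true]
    rw [mul_assoc, D.zz q h.1, mul_one]
  · rintro ⟨x, q⟩ h
    simp only [Finset.mem_filter, Finset.mem_product, Finset.mem_univ, true_and] at h
    simp only [Prod.mk.injEq, and_true]
    rw [mul_assoc, D.zz q h.1, mul_one]

/-- the sizes of the double cosets -/
theorem Col.card (D : Col K κ γ T z M) (k : Fin (n + 1) → ℕ) (k0 : k 0 = 1)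
    (hpar : ∀ i, i ≠ 0 → ∃ j < i, k j * M j i = k i * M i j ∧ M i j ≠ 0) (i : Fin (n + 1)) :
    (Finset.univ.filter fun x => κ x = i).card = Nat.card K * k i := by
  classical
  have key : ∀ m : ℕ, ∀ i : Fin (n + 1), i.val = m →
      (Finset.univ.filter fun x => κ x = i).card = Nat.card K * k i := by
    intro m
    induction m using Nat.strong_induction_on with
    | _ m ih =>
      intro i hi
      by_cases h0 : i = 0
      · subst h0
        rw [k0, mul_one, Nat.card_eq_fintype_card]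
        have h1 : (Finset.univ.filter fun x => κ x = 0) = Finset.univ.filter fun x => x ∈ K := by
          ext x
          simp only [Finset.mem_filter, Finset.mem_univ, true_and, D.κ_zero]
        rw [h1, Fintype.card_subtype]
      · obtain ⟨j, hj, h1, h2⟩ := hpar i h0
        have h3 := ih j.val (by rw [← hi]; exact hj) j rfl
        have h4 := D.sym i j
        rw [h3, mul_assoc, h1, ← mul_assoc] at h4
        exact Nat.eq_of_mul_eq_mul_right (Nat.pos_of_ne_zero h2) h4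
  exact key i.val i rfl

/-- **The character of a simple eigenvalue.** -/
theorem Col.exists_char (D : Col K κ γ T z M) (k : Fin (n + 1) → ℕ) (k0 : k 0 = 1)
    (hpar : ∀ i, i ≠ 0 → ∃ j < i, k j * M j i = k i * M i j ∧ M i j ≠ 0)
    (a : Fin (n + 1) → ℚ) (t : ℚ) (ha : ∀ i, ∑ j, (M i j : ℚ) * a j = t * a i)
    (huniq : ∀ a' : Fin (n + 1) → ℚ, (∀ i, ∑ j, (M i j : ℚ) * a' j = t * a' i) → ∀ i, a' i = a' 0 * a i)
    (ha1 : a 0 = 1) (d : ℕ) (hd : (d : ℚ) * ∑ i, (k i : ℚ) * a i ^ 2 = ∑ i, (k i : ℚ)) :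
    ∃ χ : G → ℂ, IsIrrCharacter G χ ∧ (∀ g, ∃ q : ℚ, χ g = q) ∧ χ 1 = (d : ℕ) := by
  classical
  have hsum : ∀ (f : Fin (n + 1) → ℚ) x, ∑ q ∈ T, f (κ (x * z q)) = ∑ j, (M (κ x) j : ℚ) * f j := by
    intro f x
    rw [← Finset.sum_fiberwise_of_maps_to (s := T) (t := Finset.univ) (g := fun q => κ (x * z q))
      (fun _ _ => Finset.mem_univ _)]
    refine Finset.sum_congr rfl fun j _ => ?_
    have h1 : ∀ q ∈ T.filter (fun q => κ (x * z q) = j), f (κ (x * z q)) = f j := by
      intro q hq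
      rw [(Finset.mem_filter.1 hq).2]
    rw [Finset.sum_congr rfl h1, Finset.sum_const, nsmul_eq_mul, D.cnt]
  have κ1 : κ 1 = 0 := (D.κ_zero 1).2 K.one_mem
  let V : Submodule ℚ (G → ℚ) :=
    { carrier := {φ | (∀ x, ∀ k ∈ K, φ (x * k) = φ x) ∧ ∀ x, ∑ q ∈ T, φ (x * z q) = t * φ x}
      add_mem' := by
        rintro φ ψ ⟨h1, h2⟩ ⟨h3, h4⟩
        refine ⟨fun x k hk => by rw [Pi.add_apply, Pi.add_apply, h1 x k hk, h3 x k hk], fun x => ?_⟩
        simp only [Pi.add_apply, Finset.sum_add_distrib, h2, h4]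
        ring
      zero_mem' := ⟨fun _ _ _ => rfl, fun x => by simp⟩
      smul_mem' := by
        rintro c φ ⟨h1, h2⟩
        refine ⟨fun x k hk => by rw [Pi.smul_apply, Pi.smul_apply, h1 x k hk], fun x => ?_⟩
        simp only [Pi.smul_apply, smul_eq_mul, ← Finset.mul_sum, h2]
        ring }
  refine exists_of_spherical (X := G) (fun x y => ⟨y * x⁻¹, by rw [smul_eq_mul, inv_mul_cancel_right]⟩) V
    (fun g f hf => ?_) K (1 : G) ?_ (fun x => a (κ x)) ?_ ?_ ?_ ?_ d ?_
  · obtain ⟨h1, h2⟩ := hf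
    refine ⟨fun x k hk => ?_, fun x => ?_⟩
    · show f (g * (x * k)) = f (g * x)
      rw [← mul_assoc, h1 _ k hk]
    · show ∑ q ∈ T, f (g * (x * z q)) = t * f (g * x)
      rw [← h2 (g * x)]
      exact Finset.sum_congr rfl fun q _ => by rw [mul_assoc]
  · intro f hf q hq
    have h1 := hf.1 1 q hq
    rw [one_mul] at h1
    rw [smul_eq_mul, mul_one]
    exact h1
  · refine ⟨fun x k hk => ?_, fun x => ?_⟩
    · show a (κ (x * k)) = a (κ x)
      rw [D.κr x k hk]
    · show ∑ q ∈ T, a (κ (x * z q)) = t * a (κ x)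
      rw [hsum, ha]
  · intro q hq x
    show a (κ (q * x)) = a (κ x)
    rw [D.κl _ hq]
  · show a (κ 1) = 1
    rw [κ1, ha1]
  · intro φ hφV hφ
    have hl : ∀ h ∈ K, ∀ x, φ (h * x) = φ x := hφ
    obtain ⟨hr, hT⟩ := hφV
    let a' : Fin (n + 1) → ℚ := fun i => φ (γ i)
    have haφ : ∀ x, φ x = a' (κ x) := by
      intro x
      obtain ⟨h, hh, k, hk, e⟩ := D.κs x
      show φ x = φ (γ (κ x))
      conv_lhs => rw [e]
      rw [hr _ k hk, hl h hh]
    have h2 : ∀ i, ∑ j, (M i j : ℚ) * a' j = t * a' i := by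
      intro i
      have h3 := hT (γ i)
      rw [Finset.sum_congr rfl fun q _ => haφ (γ i * z q), hsum, haφ, D.κγ] at h3
      exact h3
    refine ⟨a' 0, funext fun x => ?_⟩
    show φ x = a' 0 * a (κ x)
    rw [haφ, huniq a' h2]
  · have hk := D.card k k0 hpar
    have h1 : ∀ f : Fin (n + 1) → ℚ, ∑ y : G, f (κ y) = (Nat.card K : ℚ) * ∑ i, (k i : ℚ) * f i := by
      intro f
      rw [← Finset.sum_fiberwise_of_maps_to (s := Finset.univ) (t := Finset.univ) (g := κ)
        (fun _ _ => Finset.mem_univ _), Finset.mul_sum]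
      refine Finset.sum_congr rfl fun i _ => ?_
      have h2 : ∀ y ∈ Finset.univ.filter (fun y => κ y = i), f (κ y) = f i := by
        intro y hy
        rw [(Finset.mem_filter.1 hy).2]
      rw [Finset.sum_congr rfl h2, Finset.sum_const, nsmul_eq_mul, hk]
      push_cast
      ring
    have h3 := h1 fun _ => 1
    simp only [mul_one, Finset.sum_const, nsmul_eq_mul, Finset.card_univ] at h3
    rw [h3, h1 fun i => a i ^ 2, ← hd]
    ring

omit [Finite G] in
/-- **The character of a simple eigenvalue**, integral certificate. -/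
theorem Col.exists_char_int [Finite G] (D : Col K κ γ T z M) (k : Fin (n + 1) → ℕ) (k0 : k 0 = 1)
    (hpar : ∀ i, i ≠ 0 → ∃ j < i, k j * M j i = k i * M i j ∧ M i j ≠ 0)
    (A : Fin (n + 1) → ℤ) (t : ℤ) (hA0 : A 0 ≠ 0) (hA : ∀ i, ∑ j, (M i j : ℤ) * A j = t * A i)
    (C : Fin (n + 1) → Fin (n + 1) → ℤ) (E : Fin (n + 1) → ℤ) (hE : ∀ i, E i ≠ 0)
    (hC : ∀ i j, ∑ r, C i r * (M r j : ℤ) - t * C i j =
      E i * ((if i = j then A 0 else 0) - (if j = 0 then A i else 0)))
    (d : ℕ) (hd : (d : ℤ) * ∑ i, (k i : ℤ) * A i ^ 2 = A 0 ^ 2 * ∑ i, (k i : ℤ)) :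
    ∃ χ : G → ℂ, IsIrrCharacter G χ ∧ (∀ g, ∃ q : ℚ, χ g = q) ∧ χ 1 = (d : ℕ) := by
  have hA0' : (A 0 : ℚ) ≠ 0 := Int.cast_ne_zero.2 hA0
  refine D.exists_char k k0 hpar (fun i => A i / A 0) t ?_ ?_ ?_ d ?_
  · intro i
    have h := congrArg (Int.cast (R := ℚ)) (hA i)
    push_cast at h
    have e : ∀ j, (M i j : ℚ) * ((A j : ℚ) / A 0) = ((M i j : ℚ) * A j) / A 0 := fun j => by ring
    rw [Finset.sum_congr rfl fun j _ => e j, ← Finset.sum_div, h]
    ring
  · intro a' ha' i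
    have h1 : ∑ r, (C i r : ℚ) * (∑ j, (M r j : ℚ) * a' j - t * a' r) = 0 := by
      apply Finset.sum_eq_zero
      intro r _
      rw [ha' r, sub_self, mul_zero]
    have h2 : ∑ r, (C i r : ℚ) * (∑ j, (M r j : ℚ) * a' j - t * a' r) =
        ∑ j, (∑ r, (C i r : ℚ) * (M r j : ℚ) - t * C i j) * a' j := by
      have e1 : ∀ r, (C i r : ℚ) * (∑ j, (M r j : ℚ) * a' j - t * a' r) =
          ∑ j, (C i r : ℚ) * (M r j : ℚ) * a' j - t * C i r * a' r := by
        intro r
        rw [mul_sub, Finset.mul_sum]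
        congr 1
        · exact Finset.sum_congr rfl fun j _ => by ring
        · ring
      rw [Finset.sum_congr rfl fun r _ => e1 r, Finset.sum_sub_distrib, Finset.sum_comm, ← Finset.sum_sub_distrib]
      refine Finset.sum_congr rfl fun j _ => ?_
      rw [← Finset.sum_mul]
      ring
    have h3 : ∀ j, (∑ r, (C i r : ℚ) * (M r j : ℚ) - t * C i j) =
        E i * ((if i = j then (A 0 : ℚ) else 0) - (if j = 0 then (A i : ℚ) else 0)) := by
      intro j
      have h := congrArg (Int.cast (R := ℚ)) (hC i j)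
      push_cast at h
      exact h
    rw [h2, Finset.sum_congr rfl fun j _ => by rw [h3 j]] at h1
    have h4 : ∑ j, (E i : ℚ) * ((if i = j then (A 0 : ℚ) else 0) - (if j = 0 then (A i : ℚ) else 0)) * a' j =
        E i * (A 0 * a' i - A i * a' 0) := by
      have e1 : ∀ j, (E i : ℚ) * ((if i = j then (A 0 : ℚ) else 0) - (if j = 0 then (A i : ℚ) else 0)) * a' j =
          (if i = j then E i * A 0 * a' j else 0) - (if j = 0 then E i * A i * a' j else 0) := by
        intro j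
        split_ifs <;> ring
      rw [Finset.sum_congr rfl fun j _ => e1 j, Finset.sum_sub_distrib, Finset.sum_ite_eq, Finset.sum_ite_eq',
        if_pos (Finset.mem_univ _), if_pos (Finset.mem_univ _)]
      ring
    rw [h4] at h1
    have h5 : (A 0 : ℚ) * a' i - A i * a' 0 = 0 := by
      rcases mul_eq_zero.1 h1 with h | h
      · exact absurd h (Int.cast_ne_zero.2 (hE i))
      · exact h
    field_simp
    linear_combination h5
  · field_simp
  · have h := congrArg (Int.cast (R := ℚ)) hd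
    push_cast at h
    have e : ∀ i, (k i : ℚ) * ((A i : ℚ) / A 0) ^ 2 = (k i : ℚ) * A i ^ 2 / A 0 ^ 2 := fun i => by ring
    rw [Finset.sum_congr rfl fun i _ => e i, ← Finset.sum_div, ← mul_div_assoc, h]
    field_simp

end Main

end Cfsg.Agent.H293.F23B
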