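import Cfsg.Agent.H293.F23B.Rows

/-!
# Invariants of the sixteen double cosets; the generators
-/

set_option autoImplicit false
set_option maxRecDepth 100000

namespace Cfsg.Agent.H293.F23B

open Cfsg.Agent.Fischer Cfsg.Agent.Lib.PermNet Cfsg.Agent.Lib.PermNetOrbit Cfsg.Agent.Fischer.Fi23Nets
  Cfsg.Agent.Fischer.Fi23Rel Cfsg.Agent.Fischer.Fi23Hom Cfsg.Agent.Fischer.Fi23Orb Cfsg.Agent.Fischer.Fi23OrbData
  Cfsg.Agent.Fischer.Fi23Z Cfsg.Agent.Fischer.Fi23Final Cfsg.Agent.Fischer.Fi23Simple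
open Cfsg.Spor Cfsg.Spor.Fi23

/-- the invariants -/
def cc : Fin 16 → ℕ × ℕ := ![(23, 0), (7, 16), (3, 20), (2, 21), (1, 14), (1, 16), (0, 9), (0, 11), (0, 15), (1, 6), (0, 7), (1, 0), (0, 5), (0, 1), (0, 1), (0, 3)]

/-- check of an invariant -/
noncomputable def chkInv (U : ℕ) (l : List Lt) (m : ℕ) : Bool :=
  seqB (Nat.land (mv B0 l) U) fun Q => and (Nat.beq (Nat.shiftRight Q (Nat.pow 2 (15 : ℕ))) 0) (Nat.beq (pc 15 Q) m)

theorem inv_of_chk {U : ℕ} {l : List Lt} {m : ℕ} (h : chkInv U l m = true) : inv U (W l) = m := by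
  unfold chkInv at h
  rw [seqB_eq, Bool.and_eq_true] at h
  exact inv_W h.1 h.2

theorem ia_0 : chkInv B0 (gam 0) (cc 0).1 = true := by decide +kernel
theorem ib_0 : chkInv T7 (gam 0) (cc 0).2 = true := by decide +kernel
theorem ia_1 : chkInv B0 (gam 1) (cc 1).1 = true := by decide +kernel
theorem ib_1 : chkInv T7 (gam 1) (cc 1).2 = true := by decide +kernel
theorem ia_2 : chkInv B0 (gam 2) (cc 2).1 = true := by decide +kernel
theorem ib_2 : chkInv T7 (gam 2) (cc 2).2 = true := by decide +kernel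
theorem ia_3 : chkInv B0 (gam 3) (cc 3).1 = true := by decide +kernel
theorem ib_3 : chkInv T7 (gam 3) (cc 3).2 = true := by decide +kernel
theorem ia_4 : chkInv B0 (gam 4) (cc 4).1 = true := by decide +kernel
theorem ib_4 : chkInv T7 (gam 4) (cc 4).2 = true := by decide +kernel
theorem ia_5 : chkInv B0 (gam 5) (cc 5).1 = true := by decide +kernel
theorem ib_5 : chkInv T7 (gam 5) (cc 5).2 = true := by decide +kernel
theorem ia_6 : chkInv B0 (gam 6) (cc 6).1 = true := by decide +kernel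
theorem ib_6 : chkInv T7 (gam 6) (cc 6).2 = true := by decide +kernel
theorem ia_7 : chkInv B0 (gam 7) (cc 7).1 = true := by decide +kernel
theorem ib_7 : chkInv T7 (gam 7) (cc 7).2 = true := by decide +kernel
theorem ia_8 : chkInv B0 (gam 8) (cc 8).1 = true := by decide +kernel
theorem ib_8 : chkInv T7 (gam 8) (cc 8).2 = true := by decide +kernel
theorem ia_9 : chkInv B0 (gam 9) (cc 9).1 = true := by decide +kernel
theorem ib_9 : chkInv T7 (gam 9) (cc 9).2 = true := by decide +kernel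
theorem ia_10 : chkInv B0 (gam 10) (cc 10).1 = true := by decide +kernel
theorem ib_10 : chkInv T7 (gam 10) (cc 10).2 = true := by decide +kernel
theorem ia_11 : chkInv B0 (gam 11) (cc 11).1 = true := by decide +kernel
theorem ib_11 : chkInv T7 (gam 11) (cc 11).2 = true := by decide +kernel
theorem ia_12 : chkInv B0 (gam 12) (cc 12).1 = true := by decide +kernel
theorem ib_12 : chkInv T7 (gam 12) (cc 12).2 = true := by decide +kernel
theorem ia_13 : chkInv B0 (gam 13) (cc 13).1 = true := by decide +kernel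
theorem ib_13 : chkInv T7 (gam 13) (cc 13).2 = true := by decide +kernel
theorem ia_14 : chkInv B0 (gam 14) (cc 14).1 = true := by decide +kernel
theorem ib_14 : chkInv T7 (gam 14) (cc 14).2 = true := by decide +kernel
theorem ia_15 : chkInv B0 (gam 15) (cc 15).1 = true := by decide +kernel
theorem ib_15 : chkInv T7 (gam 15) (cc 15).2 = true := by decide +kernel

theorem invs (i : Fin 16) : inv B0 (W (gam i)) = (cc i).1 ∧ inv T7 (W (gam i)) = (cc i).2 := by
  fin_cases i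
  · exact ⟨inv_of_chk ia_0, inv_of_chk ib_0⟩
  · exact ⟨inv_of_chk ia_1, inv_of_chk ib_1⟩
  · exact ⟨inv_of_chk ia_2, inv_of_chk ib_2⟩
  · exact ⟨inv_of_chk ia_3, inv_of_chk ib_3⟩
  · exact ⟨inv_of_chk ia_4, inv_of_chk ib_4⟩
  · exact ⟨inv_of_chk ia_5, inv_of_chk ib_5⟩
  · exact ⟨inv_of_chk ia_6, inv_of_chk ib_6⟩
  · exact ⟨inv_of_chk ia_7, inv_of_chk ib_7⟩
  · exact ⟨inv_of_chk ia_8, inv_of_chk ib_8⟩
  · exact ⟨inv_of_chk ia_9, inv_of_chk ib_9⟩
  · exact ⟨inv_of_chk ia_10, inv_of_chk ib_10⟩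
  · exact ⟨inv_of_chk ia_11, inv_of_chk ib_11⟩
  · exact ⟨inv_of_chk ia_12, inv_of_chk ib_12⟩
  · exact ⟨inv_of_chk ia_13, inv_of_chk ib_13⟩
  · exact ⟨inv_of_chk ia_14, inv_of_chk ib_14⟩
  · exact ⟨inv_of_chk ia_15, inv_of_chk ib_15⟩

theorem Rel.inv {x g : Fi23} (h : Rel x g) : F23B.inv B0 x = F23B.inv B0 g ∧ F23B.inv T7 x = F23B.inv T7 g := by
  obtain ⟨a, ha, k, hk, rfl⟩ := h
  exact ⟨inv_mul ha hk, inv_mul (Hs_stT7 ha) hk⟩

theorem Rel.symm {x g : Fi23} (h : Rel x g) : Rel g x := by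
  obtain ⟨a, ha, k, hk, rfl⟩ := h
  exact ⟨a⁻¹, Hs.inv_mem ha, k⁻¹, Hs.inv_mem hk, by group⟩

theorem Rel.trans {x y g : Fi23} (h : Rel x y) (h' : Rel y g) : Rel x g := by
  obtain ⟨a, ha, k, hk, rfl⟩ := h
  obtain ⟨b, hb, l, hl, rfl⟩ := h'
  exact ⟨a * b, Hs.mul_mem ha hb, l * k, Hs.mul_mem hl hk, by group⟩

theorem Rel.refl (x : Fi23) : Rel x x := ⟨1, Hs.one_mem, 1, Hs.one_mem, by group⟩

theorem cc_of_rel {x : Fi23} {i j : Fin 16} (h : Rel x (W (gam i))) (h' : Rel x (W (gam j))) : cc i = cc j := by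
  have h1 := h.inv
  have h2 := h'.inv
  have h3 := invs i
  have h4 := invs j
  exact Prod.ext (by rw [← h3.1, ← h4.1, ← h1.1, ← h2.1]) (by rw [← h3.2, ← h4.2, ← h1.2, ← h2.2])

theorem cc_inj : ∀ i j : Fin 16, cc i = cc j → i = j ∨ (i = 13 ∧ j = 14) ∨ (i = 14 ∧ j = 13) := by decide +kernel

/-! ### The generators -/

theorem g_a : closedB [[nt .a]] B0 = true := by decide +kernel
theorem g_c : closedB [[nt .c]] B0 = true := by decide +kernel
theorem g_e : closedB [[nt .e]] B0 = true := by decide +kernel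
theorem g_i : closedB [[nt .i]] B0 = true := by decide +kernel
theorem g_j : closedB [[nt .j]] B0 = true := by decide +kernel
theorem g_b : checkEq 15 [nt .b] (([.t7, .t6, .t1] ++ (.z :: ([.t7, .t6, .t1] : List Lt).reverse) : List Lt).map nt) = true := by decide +kernel
theorem g_d : checkEq 15 [nt .d] (([.t4, .t2, .t0, .t1] ++ (.z :: ([.t4, .t2, .t0, .t1] : List Lt).reverse) : List Lt).map nt) = true := by decide +kernel
theorem g_f : checkEq 15 [nt .f] (([.t6, .t0, .t1, .t3] ++ (.z :: ([.t6, .t0, .t1, .t3] : List Lt).reverse) : List Lt).map nt) = true := by decide +kernel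
theorem g_g : checkEq 15 [nt .g] (([.t3] ++ (.z :: ([.t3] : List Lt).reverse) : List Lt).map nt) = true := by decide +kernel
theorem g_h : checkEq 15 [nt .h] (([.t4, .t6, .t1] ++ (.z :: ([.t4, .t6, .t1] : List Lt).reverse) : List Lt).map nt) = true := by decide +kernel

theorem mem_of_closed {x : Lt} (h : closedB [[nt x]] B0 = true) : el x ∈ Hs := by
  intro p
  have h1 := closedB_spec (N := 2 ^ 15) (ws := [[nt x]]) (by
    intro w hw
    rw [List.mem_singleton.1 hw]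
    exact wok [x]) h [nt x] (List.mem_singleton.2 rfl) p
  rw [wperm_cons, wperm_nil, mul_one, ← rho_el] at h1
  exact h1

theorem conj_of_check {x : Lt} {l : List Lt} (hl : allT l = true)
    (h : checkEq 15 [nt x] ((l ++ (.z :: l.reverse) : List Lt).map nt) = true) :
    ∃ v ∈ Hs, el x = v * z0 * v⁻¹ := by
  refine ⟨W l, W_allT hl, ?_⟩
  apply Fi23Simple.rho_injective
  have h1 := wperm_eq_of_checkEq (wok [x]) (wok _) h
  rw [← rho_W, ← rho_W, W_append, W_cons, W_cons, W_nil, W_reverse, el_z, mul_one, ← mul_assoc] at h1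
  exact h1

theorem el_gen (x : Gen) : ∃ y : Lt, el y = gen x ∧ (el y ∈ Hs ∨ ∃ v ∈ Hs, el y = v * z0 * v⁻¹) := by
  cases x
  · exact ⟨.a, by simp [el, tw, el0], Or.inl (mem_of_closed g_a)⟩
  · exact ⟨.b, by simp [el, tw, el0], Or.inr (conj_of_check rfl g_b)⟩
  · exact ⟨.c, by simp [el, tw, el0], Or.inl (mem_of_closed g_c)⟩
  · exact ⟨.d, by simp [el, tw, el0], Or.inr (conj_of_check rfl g_d)⟩
  · exact ⟨.e, by simp [el, tw, el0], Or.inl (mem_of_closed g_e)⟩
  · exact ⟨.f, by simp [el, tw, el0], Or.inr (conj_of_check rfl g_f)⟩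
  · exact ⟨.g, by simp [el, tw, el0], Or.inr (conj_of_check rfl g_g)⟩
  · exact ⟨.j, by simp [el, tw, el0], Or.inl (mem_of_closed g_j)⟩
  · exact ⟨.h, by simp [el, tw, el0], Or.inr (conj_of_check rfl g_h)⟩
  · exact ⟨.i, by simp [el, tw, el0], Or.inl (mem_of_closed g_i)⟩

end Cfsg.Agent.H293.F23B
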