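import Cfsg.Agent.H293.F23B.Abs
import Cfsg.Agent.H293.F23B.Dist
import Cfsg.Agent.H293.F23B.Num

/-!
# The sixteen double cosets of the stabiliser of a base in `Fi23` and two rational characters of odd degree
-/

set_option autoImplicit false

namespace Cfsg.Agent.H293.F23B

open Cfsg Cfsg.Agent.Fischer Cfsg.Agent.Fischer.Fi23Hom Cfsg.Agent.Fischer.Fi23Z
open Cfsg.Spor Cfsg.Spor.Fi23

open Classical in
/-- the points commuting with seven points of the base -/
noncomputable def TT : Finset ℕ := (Finset.range 31671).filter fun p => T7.testBit p = true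

theorem mem_TT {p : ℕ} : p ∈ TT ↔ T7.testBit p = true := by
  unfold TT
  rw [Finset.mem_filter, Finset.mem_range]
  exact ⟨fun h => h.2, fun h => ⟨T7_lt' h, h⟩⟩

theorem card_TT : TT.card = 8096 := by
  rw [← Set.ncard_coe_finset, ← Lib.PermNetOrbit.ncard_testBit T7_lt T7_pc]
  congr 1
  ext p
  rw [Finset.mem_coe, mem_TT]
  rfl

open Classical in
/-- the points `p` with `x * zt p` in the double coset of `g` -/
noncomputable def AA (x g : Fi23) : Finset ℕ := TT.filter fun p => Rel (x * zt p) g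

theorem mem_AA {x g : Fi23} {p : ℕ} : p ∈ AA x g ↔ T7.testBit p = true ∧ Rel (x * zt p) g := by
  classical
  simp only [AA, Finset.mem_filter, mem_TT]

theorem le_AA (i j : Fin 16) : Mx i j ≤ (AA (W (gam i)) (W (gam j))).card := by
  have h := blk_spec (gns_all i) (b_all i j)
  rw [← Set.ncard_coe_finset]
  refine h.trans (le_of_eq ?_)
  congr 1
  ext p
  rw [Finset.mem_coe, mem_AA]
  rfl

theorem AA_congr {x y g : Fi23} (h : Rel x y) : (AA x g).card = (AA y g).card := by
  obtain ⟨a, ha, k, hk, rfl⟩ := h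
  have e : ∀ p, T7.testBit p = true → a * y * k * zt p = a * (y * zt (rho k p)) * k := by
    intro p hp
    rw [zt_conj k (T7_lt' hp)]
    group
  have hr : ∀ p, T7.testBit p = true → (Rel (a * y * k * zt p) g ↔ Rel (y * zt (rho k p)) g) := by
    intro p hp
    rw [e p hp]
    have h1 : Rel (a * (y * zt (rho k p)) * k) (y * zt (rho k p)) := ⟨a, ha, k, hk, rfl⟩
    exact ⟨fun h => h1.symm.trans h, fun h => h1.trans h⟩
  refine Finset.card_bij (fun p _ => rho k p) ?_ ?_ ?_
  · intro p hp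
    rw [mem_AA] at hp ⊢
    exact ⟨Hs_le_T7 hk hp.1, (hr p hp.1).1 hp.2⟩
  · intro p _ q _ h
    exact (rho k).injective h
  · intro q hq
    rw [mem_AA] at hq
    have h2 : rho k (rho k⁻¹ q) = q := by
      rw [← Equiv.Perm.mul_apply, ← map_mul, mul_inv_cancel, map_one]; rfl
    have h1 := Hs_le_T7 (Hs.inv_mem hk) hq.1
    refine ⟨rho k⁻¹ q, ?_, h2⟩
    rw [mem_AA]
    refine ⟨h1, (hr _ h1).2 ?_⟩
    rw [h2]
    exact hq.2

theorem AA_disj {x : Fi23} {i j : Fin 16} (h : cc i ≠ cc j) : Disjoint (AA x (W (gam i))) (AA x (W (gam j))) := by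
  rw [Finset.disjoint_left]
  intro p hp hp'
  rw [mem_AA] at hp hp'
  exact h (cc_of_rel hp.2 hp'.2)

theorem sum_AA_le (x : Fi23) (S : Finset (Fin 16)) (hS : ∀ i ∈ S, ∀ j ∈ S, i ≠ j → cc i ≠ cc j) :
    ∑ j ∈ S, (AA x (W (gam j))).card ≤ 8096 := by
  rw [← card_TT, ← Finset.card_biUnion fun i hi j hj hij => AA_disj (hS i hi j hj hij)]
  apply Finset.card_le_card
  intro p hp
  rw [Finset.mem_biUnion] at hp
  obtain ⟨j, -, hj⟩ := hp
  exact mem_TT.2 (mem_AA.1 hj).1

theorem ne_13_14 : ¬ Rel (W (gam 13)) (W (gam 14)) := by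
  intro h
  have h1 := sum_AA_le (W (gam 13)) {6, 7, 10, 11, 12, 14, 15} (by decide +kernel)
  have h2 : ∑ j ∈ ({6, 7, 10, 11, 12, 14, 15} : Finset (Fin 16)), (AA (W (gam 13)) (W (gam j))).card =
      (AA (W (gam 13)) (W (gam 6))).card + ((AA (W (gam 13)) (W (gam 7))).card +
      ((AA (W (gam 13)) (W (gam 10))).card + ((AA (W (gam 13)) (W (gam 11))).card +
      ((AA (W (gam 13)) (W (gam 12))).card + ((AA (W (gam 13)) (W (gam 14))).card +
      (AA (W (gam 13)) (W (gam 15))).card))))) := by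
    rw [Finset.sum_insert (by decide), Finset.sum_insert (by decide), Finset.sum_insert (by decide),
      Finset.sum_insert (by decide), Finset.sum_insert (by decide), Finset.sum_insert (by decide),
      Finset.sum_singleton]
  rw [h2, AA_congr (g := W (gam 6)) h] at h1
  have h3 := le_AA 14 6
  have h4 := le_AA 13 7
  have h5 := le_AA 13 10
  have h6 := le_AA 13 11
  have h7 := le_AA 13 12
  have h8 := le_AA 13 14
  have h9 := le_AA 13 15
  have e : Mx 14 6 + (Mx 13 7 + (Mx 13 10 + (Mx 13 11 + (Mx 13 12 + (Mx 13 14 + Mx 13 15))))) = 9040 := by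
    decide +kernel
  omega

theorem rel_inj {i j : Fin 16} (h : Rel (W (gam i)) (W (gam j))) : i = j := by
  rcases cc_inj i j (cc_of_rel (Rel.refl _) h) with h1 | ⟨rfl, rfl⟩ | ⟨rfl, rfl⟩
  · exact h1
  · exact absurd h ne_13_14
  · exact absurd h.symm ne_13_14

theorem AA_disj' {x : Fi23} {i j : Fin 16} (h : i ≠ j) : Disjoint (AA x (W (gam i))) (AA x (W (gam j))) := by
  rw [Finset.disjoint_left]
  intro p hp hp'
  rw [mem_AA] at hp hp'
  exact h (rel_inj (hp.2.symm.trans hp'.2))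

theorem biUnion_AA (i : Fin 16) : (Finset.univ.biUnion fun j => AA (W (gam i)) (W (gam j))) = TT ∧
    ∀ j, (AA (W (gam i)) (W (gam j))).card = Mx i j := by
  have hsub : (Finset.univ.biUnion fun j => AA (W (gam i)) (W (gam j))) ⊆ TT := by
    intro p hp
    rw [Finset.mem_biUnion] at hp
    obtain ⟨j, -, hj⟩ := hp
    exact mem_TT.2 (mem_AA.1 hj).1
  have hcard : (Finset.univ.biUnion fun j => AA (W (gam i)) (W (gam j))).card =
      ∑ j, (AA (W (gam i)) (W (gam j))).card :=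
    Finset.card_biUnion fun a _ b _ hab => AA_disj' hab
  have h1 := Finset.card_le_card hsub
  rw [hcard, card_TT] at h1
  have h2 : ∑ j, Mx i j ≤ ∑ j, (AA (W (gam i)) (W (gam j))).card := Finset.sum_le_sum fun j _ => le_AA i j
  have h3 := row_sum i
  have h4 : ∑ j, Mx i j = ∑ j, (AA (W (gam i)) (W (gam j))).card := by omega
  refine ⟨Finset.eq_of_subset_of_card_le hsub ?_, fun j => ?_⟩
  · rw [hcard, card_TT, ← h4, h3]
  · exact ((Finset.sum_eq_sum_iff_of_le fun j _ => le_AA i j).1 h4 j (Finset.mem_univ _)).symm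

/-- every neighbour of a representative lies in one of the double cosets -/
theorem exists_rel (i : Fin 16) {p : ℕ} (hp : T7.testBit p = true) : ∃ j, Rel (W (gam i) * zt p) (W (gam j)) := by
  have h := mem_TT.2 hp
  rw [← (biUnion_AA i).1, Finset.mem_biUnion] at h
  obtain ⟨j, -, hj⟩ := h
  exact ⟨j, (mem_AA.1 hj).2⟩

theorem cov_mul {x k : Fi23} (hk : k ∈ Hs) {g : Fi23} (h : Rel x g) : Rel (x * k) g := by
  obtain ⟨a, ha, b, hb, rfl⟩ := h
  exact ⟨a, ha, b * k, Hs.mul_mem hb hk, by group⟩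

theorem cov_z0 {x : Fi23} (h : ∃ i, Rel x (W (gam i))) : ∃ i, Rel (x * z0) (W (gam i)) := by
  obtain ⟨i, a, ha, k, hk, rfl⟩ := h
  have h1 : T7.testBit (rho k 0) = true := Hs_le_T7 hk T7_tb0
  obtain ⟨j, hj⟩ := exists_rel i h1
  refine ⟨j, Rel.trans ⟨a, ha, k, hk, ?_⟩ hj⟩
  rw [zt_of (v := k) rfl]
  group

theorem cov_gen (y : Gen) {x : Fi23} (h : ∃ i, Rel x (W (gam i))) : ∃ i, Rel (x * gen y) (W (gam i)) := by
  obtain ⟨l, hl, h1 | ⟨v, hv, h1⟩⟩ := el_gen y
  · obtain ⟨i, hi⟩ := h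
    rw [← hl]
    exact ⟨i, cov_mul h1 hi⟩
  · rw [← hl, h1, ← mul_assoc, ← mul_assoc]
    obtain ⟨i, hi⟩ := h
    obtain ⟨j, hj⟩ := cov_z0 ⟨i, cov_mul hv hi⟩
    exact ⟨j, cov_mul (Hs.inv_mem hv) hj⟩

theorem gam_zero : W (gam 0) = 1 := by
  have h : gam 0 = [] := rfl
  rw [h, W_nil]

theorem cov (x : Fi23) : ∃ i, Rel x (W (gam i)) := by
  have hx : x ∈ Subgroup.closure (Set.range gen) := by
    rw [Fi23Final.gens_top]
    trivial
  induction hx using Subgroup.closure_induction_right with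
  | one => exact ⟨0, by rw [gam_zero]; exact Rel.refl 1⟩
  | mul_right x y _ hy ih =>
    obtain ⟨c, rfl⟩ := hy
    exact cov_gen c ih
  | mul_inv_cancel x y _ hy ih =>
    obtain ⟨c, rfl⟩ := hy
    rw [inv_eq_of_mul_eq_one_left (Fi23Final.gen_sq c)]
    exact cov_gen c ih

/-- the double coset of an element -/
noncomputable def kap (x : Fi23) : Fin 16 := (cov x).choose

theorem kap_spec (x : Fi23) : Rel x (W (gam (kap x))) := (cov x).choose_spec

theorem kap_eq {x : Fi23} {i : Fin 16} : kap x = i ↔ Rel x (W (gam i)) := by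
  constructor
  · rintro rfl
    exact kap_spec x
  · intro h
    exact rel_inj ((kap_spec x).symm.trans h)

theorem col : Col Hs kap (fun i => W (gam i)) TT zt Mx where
  γ0 := gam_zero
  κγ i := kap_eq.2 (Rel.refl _)
  κl h hh x := kap_eq.2 (Rel.trans ⟨h, hh, 1, Hs.one_mem, by group⟩ (kap_spec x))
  κr x k hk := kap_eq.2 (cov_mul hk (kap_spec x))
  κs x := kap_spec x
  zz q _ := zt_sq q
  cnt x j := by
    rw [← (biUnion_AA (kap x)).2 j, ← AA_congr (kap_spec x)]
    have h : (TT.filter fun q => kap (x * zt q) = j) = AA x (W (gam j)) := by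
      ext p
      rw [Finset.mem_filter, mem_AA, mem_TT, kap_eq]
    rw [h]

/-- **Two rational characters of odd degree of `Fi23`.** -/
theorem exists_812889 : ∃ χ : Fi23 → ℂ, IsIrrCharacter Fi23 χ ∧ (∀ g, ∃ q : ℚ, χ g = q) ∧ χ 1 = (812889 : ℕ) := by
  have := Fintype.ofFinite Fi23
  exact col.exists_char_int kk kk_zero kk_par A77 _ A77_zero A77_eig C77 E77 E77_ne C77_eq 812889 d77

theorem exists_29354325 : ∃ χ : Fi23 → ℂ, IsIrrCharacter Fi23 χ ∧ (∀ g, ∃ q : ℚ, χ g = q) ∧
    χ 1 = (29354325 : ℕ) := by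
  have := Fintype.ofFinite Fi23
  exact col.exists_char_int kk kk_zero kk_par A29 _ A29_zero A29_eig C29 E29 E29_ne C29_eq 29354325 d29

end Cfsg.Agent.H293.F23B
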