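import Cfsg.Agent.H293.F23B.Geo

/-!
# The sixteen double cosets of the stabiliser of a base in `Fi23`. Data.
-/

set_option autoImplicit false

namespace Cfsg.Agent.H293.F23B

/-- representatives of the double cosets -/
def gam : Fin 16 → List Lt := ![
  [],
  [.z],
  [.d, .b],
  [.f, .d, .b],
  [.g, .d, .b],
  [.g, .f, .d, .b],
  [.h, .g, .d, .b],
  [.h, .g, .f, .d, .b],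
  [.d, .h, .g, .f, .d, .b],
  [.d, .h, .i, .f, .e, .d, .h, .c, .d, .b],
  [.d, .h, .i, .f, .e, .d, .h, .g, .c, .d, .b],
  [.f, .d, .e, .b, .c, .d, .h, .d, .e, .f, .c, .d, .b],
  [.d, .h, .f, .g, .e, .f, .b, .c, .d, .a, .b],
  [.f, .d, .e, .b, .c, .d, .h, .g, .d, .e, .f, .c, .d, .b],
  [.g, .f, .d, .e, .b, .c, .d, .h, .g, .d, .e, .f, .c, .d, .b],
  [.g, .f, .d, .e, .b, .c, .d, .h, .g, .d, .e, .f, .c, .d, .a, .b]]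

/-- generators of the stabilisers `Hs ∩ γ⁻¹ Hs γ` -/
def gns : Fin 16 → List (List Lt) := ![
  [[.t0], [.t1], [.t2], [.t3], [.t4], [.t5], [.t6], [.t7], [.t8]],
  [[.t6], [.t1, .t8, .t7, .t1, .t8, .t6, .t3, .t1], [.t7, .t4, .t3, .t7, .t4, .t7], [.t1, .t6, .t7, .t4, .t6, .t8, .t6, .t1]],
  [[.t6, .t8, .t5, .t8], [.t0, .t6, .t3, .t6, .t0], [.t7, .t4, .t8, .t4, .t7]],
  [[.t2, .t1, .t8, .t0, .t1, .t0, .t4, .t5, .t6, .t8, .t5, .t3, .t4, .t8, .t1], [.t1, .t5, .t8, .t2, .t1, .t8, .t5, .t0, .t4, .t2, .t8, .t1, .t6, .t2, .t4, .t2], [.t5, .t1, .t3, .t1, .t7, .t5, .t0]],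
  [[.t1, .t2, .t1, .t2, .t1, .t2], [.t0, .t5, .t7, .t0, .t6, .t1, .t5], [.t1, .t3, .t7, .t2, .t8, .t2, .t7], [.t6, .t8, .t1, .t4, .t5, .t1, .t8]],
  [[.t3, .t8, .t5, .t0, .t4, .t8, .t4, .t7, .t2, .t7, .t4, .t6, .t5], [.t0, .t1, .t2, .t3, .t5, .t8, .t6, .t5, .t6, .t8, .t5, .t8, .t1, .t3]],
  [[.t4, .t6, .t1, .t7, .t3, .t8, .t0, .t5, .t6, .t4, .t8, .t7, .t5, .t1, .t2], [.t0, .t5, .t2, .t5], [.t1, .t7, .t8, .t1, .t2, .t3, .t1, .t5], [.t2, .t8, .t1, .t7, .t1, .t7, .t8, .t2]],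
  [[.t0, .t2, .t8, .t3, .t8, .t3, .t2, .t0], [.t2, .t4, .t3, .t8, .t3, .t8, .t4, .t2], [.t4, .t7, .t3, .t5, .t7, .t5, .t7, .t1, .t8, .t1, .t5, .t1, .t8], [.t3, .t4, .t5, .t8, .t2, .t4, .t8, .t0, .t4, .t2, .t8, .t4, .t0, .t5, .t3]],
  [[.t5, .t6, .t8, .t0, .t5, .t2], [.t0, .t8, .t5, .t7, .t1, .t8, .t1, .t3]],
  [[.t7, .t8, .t0, .t7, .t4], [.t6, .t8, .t0, .t8, .t6], [.t2, .t5, .t6, .t0]],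
  [[.t6, .t5, .t8, .t2, .t4, .t8, .t6], [.t4, .t0, .t8, .t7, .t4, .t7, .t8, .t5, .t0, .t8, .t5, .t3, .t0, .t1, .t0]],
  [[.t5, .t1, .t7, .t1, .t5], [.t8, .t7, .t6, .t7, .t8], [.t8, .t5, .t8], [.t1, .t8, .t1]],
  [[.t3, .t4, .t3, .t0, .t1, .t2], [.t2, .t3, .t6, .t5, .t1, .t2, .t5], [.t0, .t1, .t5, .t8, .t5, .t1, .t0]],
  [[.t2, .t4, .t0, .t2, .t0, .t4], [.t5, .t1, .t0, .t3, .t7, .t2, .t8, .t6, .t1, .t0, .t4, .t1], [.t6, .t8, .t1, .t3, .t8, .t1, .t2, .t8]],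
  [[.t2, .t5, .t8, .t0, .t1, .t7, .t8, .t2, .t1, .t6, .t1, .t8, .t6, .t4, .t2], [.t6, .t1, .t7, .t3, .t7, .t1, .t6], [.t2, .t1, .t3, .t5, .t6, .t8, .t5, .t3, .t5, .t8, .t6, .t5, .t1, .t2], [.t1, .t0, .t6, .t8, .t6, .t0, .t1]],
  [[.t0, .t1, .t7, .t5, .t0, .t7, .t2, .t5, .t6, .t5, .t7, .t5, .t7, .t1, .t0], [.t1, .t6, .t1, .t6, .t1, .t6], [.t3, .t4, .t7, .t5, .t7, .t5, .t0, .t4, .t1, .t8, .t1, .t2, .t4, .t3, .t0], [.t2, .t4, .t7, .t3, .t5, .t2, .t4, .t6, .t1, .t5, .t0, .t8, .t4, .t2, .t4]]]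

/-- neighbours of the class 0 -/
def blk0 : Fin 16 → Blk := ![
  ⟨0, 0, []⟩,
  ⟨3, 8096, [([], [])]⟩,
  ⟨0, 0, []⟩,
  ⟨0, 0, []⟩,
  ⟨0, 0, []⟩,
  ⟨0, 0, []⟩,
  ⟨0, 0, []⟩,
  ⟨0, 0, []⟩,
  ⟨0, 0, []⟩,
  ⟨0, 0, []⟩,
  ⟨0, 0, []⟩,
  ⟨0, 0, []⟩,
  ⟨0, 0, []⟩,
  ⟨0, 0, []⟩,
  ⟨0, 0, []⟩,
  ⟨0, 0, []⟩]

/-- neighbours of the class 1 -/
def blk1 : Fin 16 → Blk := ![
  ⟨3, 16, [([], [])]⟩,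
  ⟨3, 16, [([.t1, .t6, .t0, .t1], [.t1, .t6, .t0, .t1])]⟩,
  ⟨5, 4480, [([.t1], [.t7, .t6, .t1])]⟩,
  ⟨0, 0, []⟩,
  ⟨0, 0, []⟩,
  ⟨0, 0, []⟩,
  ⟨0, 0, []⟩,
  ⟨0, 0, []⟩,
  ⟨0, 0, []⟩,
  ⟨5, 3584, [([.t7, .t2, .t1], [.t1, .t6, .t0])]⟩,
  ⟨0, 0, []⟩,
  ⟨0, 0, []⟩,
  ⟨0, 0, []⟩,
  ⟨0, 0, []⟩,
  ⟨0, 0, []⟩,
  ⟨0, 0, []⟩]

/-- neighbours of the class 2 -/
def blk2 : Fin 16 → Blk := ![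
  ⟨0, 0, []⟩,
  ⟨6, 80, [([.t7, .t1], [.t7, .t1])]⟩,
  ⟨4, 80, [([.t7, .t0, .t1], [.t0]),
    ([.t7, .t6, .t0, .t1], [.t2, .t8, .t2])]⟩,
  ⟨8, 1536, [([.t1], [.t2, .t4, .t0, .t8, .t2])]⟩,
  ⟨9, 3840, [([], []),
    ([.t4], [])]⟩,
  ⟨0, 0, []⟩,
  ⟨0, 0, []⟩,
  ⟨0, 0, []⟩,
  ⟨0, 0, []⟩,
  ⟨0, 0, []⟩,
  ⟨8, 2560, [([.t1, .t8, .t1], [.t7, .t1, .t6, .t4, .t3, .t4])]⟩,
  ⟨0, 0, []⟩,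
  ⟨0, 0, []⟩,
  ⟨0, 0, []⟩,
  ⟨0, 0, []⟩,
  ⟨0, 0, []⟩]

/-- neighbours of the class 3 -/
def blk3 : Fin 16 → Blk := ![
  ⟨0, 0, []⟩,
  ⟨0, 0, []⟩,
  ⟨5, 336, [([.t0, .t1], [.t3, .t1])]⟩,
  ⟨4, 336, [([.t1], [.t2, .t4, .t0, .t8, .t2]),
    ([.t4, .t1], [.t2, .t4, .t0, .t8, .t2])]⟩,
  ⟨0, 0, []⟩,
  ⟨6, 3584, [([], [.t3, .t7, .t6, .t1, .t3]),
    ([.t4], [.t3, .t7, .t6, .t1, .t3])]⟩,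
  ⟨6, 3840, [([.t2, .t7], [.t5, .t0, .t7, .t8, .t5, .t8, .t6, .t5, .t3, .t1]),
    ([.t3, .t2, .t1], [.t2, .t5, .t3, .t1, .t8, .t2])]⟩,
  ⟨0, 0, []⟩,
  ⟨0, 0, []⟩,
  ⟨0, 0, []⟩,
  ⟨0, 0, []⟩,
  ⟨0, 0, []⟩,
  ⟨0, 0, []⟩,
  ⟨0, 0, []⟩,
  ⟨0, 0, []⟩,
  ⟨0, 0, []⟩]

/-- neighbours of the class 4 -/
def blk4 : Fin 16 → Blk := ![
  ⟨0, 0, []⟩,
  ⟨0, 0, []⟩,
  ⟨4, 112, [([], []),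
    ([.t4], [])]⟩,
  ⟨0, 0, []⟩,
  ⟨5, 336, [([.t7, .t0, .t1], [.t0]),
    ([.t1, .t6, .t0, .t1], [.t5, .t7, .t1, .t5, .t0]),
    ([.t5, .t1, .t8, .t1], [.t4, .t1, .t8, .t1, .t2, .t8, .t5, .t1]),
    ([.t1, .t5, .t4, .t7], [.t5, .t7, .t5, .t1, .t2, .t4, .t2]),
    ([.t4, .t1, .t6, .t0, .t1], [.t5, .t7, .t1, .t5, .t0])]⟩,
  ⟨7, 1792, [([.t1], [.t3]),
    ([.t7, .t4], [.t1, .t6, .t1, .t3])]⟩,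
  ⟨8, 3584, [([.t2, .t1], [.t2, .t5, .t3, .t7, .t0, .t1, .t5]),
    ([.t4, .t2, .t1], [.t2, .t5, .t3, .t7, .t0, .t1, .t5])]⟩,
  ⟨0, 0, []⟩,
  ⟨5, 256, [([.t8, .t1], [.t6, .t8, .t4, .t3]),
    ([.t2, .t7, .t4], [.t8, .t2, .t4, .t1, .t3, .t2, .t1])]⟩,
  ⟨5, 224, [([.t7, .t4, .t8, .t1], [.t4, .t1, .t6, .t1, .t0]),
    ([.t0, .t1, .t5, .t2, .t7], [.t4, .t1, .t6, .t1, .t0])]⟩,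
  ⟨0, 0, []⟩,
  ⟨0, 0, []⟩,
  ⟨0, 0, []⟩,
  ⟨0, 0, []⟩,
  ⟨0, 0, []⟩,
  ⟨6, 1792, [([.t2, .t4, .t7], [.t0, .t5, .t0, .t1, .t0, .t8, .t5, .t1, .t0]),
    ([.t2, .t4, .t7, .t3], [.t0, .t5, .t0, .t1, .t0, .t8, .t5, .t1, .t0])]⟩]

/-- neighbours of the class 5 -/
def blk5 : Fin 16 → Blk := ![
  ⟨0, 0, []⟩,
  ⟨0, 0, []⟩,
  ⟨0, 0, []⟩,
  ⟨7, 256, [([], [.t5, .t1, .t5, .t3, .t0]),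
    ([.t4], [.t5, .t1, .t5, .t3, .t0])]⟩,
  ⟨9, 960, [([.t3, .t7], [.t3, .t7, .t1, .t6]),
    ([.t5, .t4, .t7], [.t1, .t3, .t4, .t2, .t8, .t5, .t2, .t1])]⟩,
  ⟨8, 1216, [([.t1], [.t3]),
    ([.t4, .t1], [.t3]),
    ([.t6, .t1], [.t7, .t1, .t6, .t1]),
    ([.t1, .t3], [.t3]),
    ([.t6, .t1, .t3], [.t7, .t1, .t6, .t1])]⟩,
  ⟨0, 0, []⟩,
  ⟨10, 3072, [([.t2, .t1], [.t0, .t5, .t2, .t8, .t5, .t6]),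
    ([.t8, .t1], [.t6, .t1, .t8, .t3, .t7, .t0]),
    ([.t2, .t7, .t4, .t1], [.t6, .t2, .t8, .t6, .t3, .t4])]⟩,
  ⟨0, 0, []⟩,
  ⟨3, 16, [([.t7, .t4, .t8, .t5, .t1, .t8, .t1], [.t3, .t1, .t5, .t0, .t8, .t4, .t1, .t8])]⟩,
  ⟨0, 0, []⟩,
  ⟨3, 16, [([.t4, .t1, .t8, .t5, .t1, .t8, .t1], [.t5, .t8, .t4, .t7, .t5, .t6, .t3]),
    ([.t7, .t0, .t5, .t7, .t2, .t4, .t7], [.t5, .t8, .t4, .t7, .t5, .t6, .t3])]⟩,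
  ⟨11, 2560, [([.t2, .t8, .t1], [.t2, .t7, .t1, .t8, .t0, .t1, .t2]),
    ([.t8, .t3, .t7], [.t2, .t7, .t1, .t8, .t0, .t1, .t2]),
    ([.t4, .t0, .t8, .t1], [.t2, .t7, .t1, .t8, .t0, .t1, .t2])]⟩,
  ⟨0, 0, []⟩,
  ⟨0, 0, []⟩,
  ⟨0, 0, []⟩]

/-- neighbours of the class 6 -/
def blk6 : Fin 16 → Blk := ![
  ⟨0, 0, []⟩,
  ⟨0, 0, []⟩,
  ⟨0, 0, []⟩,
  ⟨3, 16, [([], [.t1, .t3, .t2, .t4, .t0]),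
    ([.t4], [.t1, .t3, .t2, .t4, .t0])]⟩,
  ⟨4, 112, [([.t7, .t1], [.t5, .t6]),
    ([.t7, .t4, .t1], [.t5, .t6])]⟩,
  ⟨0, 0, []⟩,
  ⟨4, 688, [([.t4, .t0, .t1], [.t4, .t2, .t4]),
    ([.t7, .t2, .t1], [.t4, .t3, .t4]),
    ([.t1, .t8, .t1], [.t5, .t8, .t7, .t5, .t4, .t7, .t2, .t5, .t0]),
    ([.t7, .t4, .t0, .t1], [.t4, .t2, .t4]),
    ([.t8, .t4, .t0, .t1], [.t4, .t2, .t4]),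
    ([.t1, .t5, .t0, .t1], [.t1, .t0, .t8, .t6, .t5, .t6, .t8, .t0, .t1]),
    ([.t7, .t5, .t0, .t1], [.t2, .t0, .t8, .t4, .t3, .t4]),
    ([.t1, .t6, .t0, .t1], [.t1, .t6, .t0, .t1, .t8, .t5, .t0]),
    ([.t7, .t4, .t2, .t1], [.t4, .t3, .t4]),
    ([.t2, .t7, .t4, .t1], [.t4, .t2, .t4, .t6, .t2]),
    ([.t1, .t8, .t4, .t1], [.t5, .t8, .t7, .t5, .t4, .t7, .t2, .t5, .t0]),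
    ([.t7, .t2, .t7, .t4], [.t1, .t0, .t8, .t6, .t5, .t6, .t8, .t0, .t1]),
    ([.t4, .t1, .t6, .t0, .t1], [.t1, .t6, .t0, .t1, .t8, .t5, .t0])]⟩,
  ⟨5, 2688, [([.t1], [.t3]),
    ([.t7, .t4], [.t1, .t6, .t2, .t0, .t1, .t3]),
    ([.t5, .t7], [.t5, .t7, .t2, .t8, .t5, .t7, .t4, .t3, .t1]),
    ([.t7, .t0, .t4], [.t1, .t6, .t2, .t0, .t1, .t3]),
    ([.t2, .t7, .t4], [.t8, .t7, .t0, .t5, .t3, .t0]),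
    ([.t5, .t7, .t4], [.t5, .t7, .t2, .t8, .t5, .t7, .t4, .t3, .t1]),
    ([.t4, .t2, .t7], [.t0, .t2, .t6, .t4, .t7, .t5, .t8, .t7, .t5, .t0]),
    ([.t5, .t4, .t7], [.t2, .t1, .t7, .t5, .t4, .t2, .t7, .t8, .t2, .t5]),
    ([.t4, .t2, .t7, .t3], [.t0, .t2, .t6, .t4, .t7, .t5, .t8, .t7, .t5, .t0]),
    ([.t0, .t4, .t7, .t3], [.t6, .t1, .t8, .t2, .t7, .t5, .t4, .t6, .t2])]⟩,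
  ⟨0, 0, []⟩,
  ⟨0, 0, []⟩,
  ⟨4, 560, [([.t1, .t8, .t7], [.t4, .t0, .t8, .t6, .t1, .t5, .t6, .t0]),
    ([.t1, .t2, .t0, .t1], [.t7, .t0, .t1, .t6, .t8, .t1]),
    ([.t5, .t7, .t2, .t1], [.t4, .t5, .t2, .t8, .t5, .t8, .t1, .t6, .t0]),
    ([.t1, .t8, .t7, .t4], [.t4, .t0, .t8, .t6, .t1, .t5, .t6, .t0]),
    ([.t1, .t0, .t4, .t2, .t1], [.t7, .t0, .t1, .t6, .t8, .t1]),
    ([.t4, .t7, .t8, .t3, .t1], [.t4, .t6, .t1, .t8, .t6, .t2, .t0]),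
    ([.t4, .t7, .t5, .t2, .t7], [.t8, .t7, .t1, .t6, .t3])]⟩,
  ⟨0, 0, []⟩,
  ⟨5, 2688, [([.t4, .t7], [.t1, .t0, .t8, .t2, .t0, .t4, .t1]),
    ([.t4, .t7, .t3], [.t1, .t0, .t8, .t2, .t0, .t4, .t1]),
    ([.t4, .t7, .t4], [.t1, .t0, .t8, .t2, .t0, .t4, .t1]),
    ([.t4, .t8, .t3, .t1], [.t8, .t4, .t7, .t1, .t6, .t8, .t5, .t4]),
    ([.t4, .t1, .t2, .t7], [.t3, .t4, .t2, .t8, .t4, .t1, .t3]),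
    ([.t1, .t2, .t4, .t7], [.t2, .t4, .t6, .t8, .t5, .t4, .t1, .t3]),
    ([.t1, .t8, .t4, .t7], [.t4, .t6, .t8, .t4, .t2, .t1, .t5, .t3]),
    ([.t1, .t8, .t5, .t7], [.t0, .t1, .t2, .t1, .t0, .t4, .t7, .t5, .t0, .t5]),
    ([.t7, .t5, .t7, .t2, .t1], [.t3, .t4, .t6, .t8, .t4, .t2, .t1, .t5, .t3])]⟩,
  ⟨0, 0, []⟩,
  ⟨5, 672, [([.t7, .t8, .t4, .t2, .t7], [.t7, .t2, .t7, .t1, .t2, .t4, .t7, .t5, .t7]),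
    ([.t4, .t7, .t4, .t8, .t7], [.t8, .t2, .t0, .t8, .t1, .t0, .t4, .t7]),
    ([.t7, .t8, .t4, .t2, .t7, .t3], [.t7, .t2, .t7, .t1, .t2, .t4, .t7, .t5, .t7]),
    ([.t1, .t5, .t8, .t4, .t7, .t3], [.t2, .t8, .t1, .t6, .t4, .t7, .t5, .t7])]⟩,
  ⟨5, 672, [([.t4, .t1, .t8, .t5, .t7], [.t6, .t5, .t8, .t2, .t1, .t5, .t4, .t6, .t8]),
    ([.t1, .t5, .t4, .t8, .t7, .t4], [.t6, .t5, .t8, .t2, .t1, .t5, .t4, .t6, .t8]),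
    ([.t1, .t8, .t6, .t4, .t2, .t7], [.t6, .t5, .t8, .t1, .t5, .t4, .t6, .t1, .t8]),
    ([.t1, .t5, .t7, .t2, .t4, .t7], [.t5, .t0, .t1, .t5, .t7, .t8, .t7, .t4])]⟩]

/-- neighbours of the class 7 -/
def blk7 : Fin 16 → Blk := ![
  ⟨0, 0, []⟩,
  ⟨0, 0, []⟩,
  ⟨0, 0, []⟩,
  ⟨0, 0, []⟩,
  ⟨0, 0, []⟩,
  ⟨7, 176, [([], [.t1, .t3, .t1, .t2, .t4, .t0]),
    ([.t4], [.t1, .t3, .t1, .t2, .t4, .t0]),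
    ([.t5, .t7, .t4, .t1], [.t3, .t4, .t3])]⟩,
  ⟨9, 2640, [([.t2, .t1], [.t2, .t5, .t3, .t7, .t0, .t1, .t5]),
    ([.t4, .t7], [.t1, .t3, .t4, .t2, .t8, .t5, .t0, .t1]),
    ([.t6, .t2, .t1], [.t5, .t8, .t6, .t5, .t7, .t1, .t6]),
    ([.t2, .t8, .t1], [.t3, .t6, .t4, .t8, .t5, .t7, .t6, .t1, .t5]),
    ([.t8, .t3, .t7], [.t3, .t6, .t4, .t8, .t5, .t7, .t6, .t1, .t5]),
    ([.t5, .t4, .t7], [.t1, .t6, .t8, .t7, .t5, .t7, .t8, .t5, .t3, .t1]),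
    ([.t4, .t8, .t2, .t1], [.t0, .t8, .t5, .t7, .t1, .t0, .t5, .t2, .t1]),
    ([.t2, .t5, .t8, .t1], [.t4, .t6, .t8, .t4, .t8, .t1, .t5, .t7, .t6]),
    ([.t7, .t5, .t2, .t7], [.t1, .t0, .t6, .t5, .t8, .t5, .t7, .t4, .t7, .t0]),
    ([.t5, .t7, .t5, .t7], [.t2, .t3, .t7, .t5, .t4, .t0, .t8, .t3, .t2, .t1])]⟩,
  ⟨9, 2112, [([.t1], [.t3]),
    ([.t4, .t1], [.t3]),
    ([.t6, .t1], [.t7, .t6, .t8, .t3, .t7, .t0]),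
    ([.t1, .t3], [.t3]),
    ([.t4, .t0, .t1], [.t4, .t2, .t4, .t3]),
    ([.t6, .t4, .t1], [.t7, .t6, .t8, .t3, .t7, .t0]),
    ([.t4, .t7, .t1], [.t8, .t5, .t2, .t5, .t8, .t3]),
    ([.t6, .t1, .t3], [.t7, .t6, .t8, .t3, .t7, .t0]),
    ([.t1, .t8, .t4], [.t3]),
    ([.t2, .t8, .t7], [.t3, .t7, .t6, .t1, .t5, .t6, .t8, .t0]),
    ([.t1, .t8, .t4, .t1], [.t6, .t7, .t8, .t3, .t7, .t5, .t1, .t5])]⟩,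
  ⟨7, 176, [([.t4, .t6, .t1], []),
    ([.t4, .t8, .t1], [.t6, .t5, .t8])]⟩,
  ⟨0, 0, []⟩,
  ⟨0, 0, []⟩,
  ⟨0, 0, []⟩,
  ⟨9, 1760, [([.t5, .t7], [.t8, .t7, .t0, .t1, .t0, .t5, .t7]),
    ([.t5, .t7, .t3], [.t8, .t7, .t0, .t1, .t0, .t5, .t7]),
    ([.t5, .t7, .t4], [.t8, .t7, .t0, .t1, .t0, .t5, .t7]),
    ([.t5, .t8, .t2, .t1], [.t6, .t0, .t1, .t3, .t4]),
    ([.t5, .t1, .t8, .t1], [.t6, .t8, .t1, .t6, .t1, .t5, .t7, .t1, .t0]),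
    ([.t5, .t1, .t2, .t7], [.t2, .t4, .t6, .t0, .t1, .t3, .t1]),
    ([.t3, .t4, .t2, .t7], [.t0, .t5, .t7, .t5, .t8, .t6, .t1, .t5]),
    ([.t5, .t3, .t4, .t7], [.t0, .t8, .t2, .t5, .t7, .t4, .t2, .t1, .t3, .t1, .t0]),
    ([.t4, .t1, .t8, .t0, .t1], [.t6, .t0, .t1, .t3, .t4]),
    ([.t2, .t4, .t1, .t2, .t7], [.t0, .t4, .t3, .t6, .t5, .t8, .t5, .t4, .t1, .t3])]⟩,
  ⟨7, 176, [([.t5, .t7, .t4, .t2, .t7, .t1], [.t1, .t0, .t4, .t7, .t4, .t0, .t5, .t3]),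
    ([.t4, .t7, .t8, .t4, .t2, .t7], [.t2, .t4, .t6, .t2, .t1, .t8, .t5, .t6, .t4, .t1])]⟩,
  ⟨8, 176, [([.t5, .t8, .t7, .t4, .t8, .t7], [.t0, .t5, .t4, .t7, .t1, .t5, .t7, .t8]),
    ([.t2, .t7, .t5, .t1, .t2, .t0, .t1], [.t0, .t5, .t4, .t7, .t1, .t5, .t7, .t8])]⟩,
  ⟨8, 880, [([.t0, .t4, .t2, .t7], [.t6, .t2, .t8, .t5, .t6, .t2, .t1, .t0]),
    ([.t8, .t4, .t2, .t7], [.t6, .t8, .t1, .t5, .t7, .t6, .t4]),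
    ([.t3, .t2, .t4, .t7], [.t5, .t1, .t8, .t5, .t8, .t1, .t0]),
    ([.t0, .t5, .t4, .t7], [.t1, .t0, .t5, .t1, .t0])]⟩]

/-- neighbours of the class 8 -/
def blk8 : Fin 16 → Blk := ![
  ⟨0, 0, []⟩,
  ⟨0, 0, []⟩,
  ⟨0, 0, []⟩,
  ⟨0, 0, []⟩,
  ⟨7, 240, [([], [.t4, .t6, .t1, .t8, .t2, .t1]),
    ([.t8, .t4], [.t4, .t6, .t1, .t8, .t2, .t1])]⟩,
  ⟨0, 0, []⟩,
  ⟨0, 0, []⟩,
  ⟨11, 5376, [([.t7], [.t5, .t1, .t6, .t1, .t3, .t2, .t4]),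
    ([.t6, .t1], [.t4, .t0, .t8, .t3, .t2, .t0])]⟩,
  ⟨7, 240, [([.t1], [.t3]),
    ([.t1, .t8, .t4], [.t3]),
    ([.t1, .t6, .t0, .t1], [.t1, .t6, .t8, .t5, .t0])]⟩,
  ⟨0, 0, []⟩,
  ⟨10, 1120, [([.t7, .t5, .t7], [.t1, .t0, .t8, .t1, .t6, .t8, .t5, .t7, .t6, .t1]),
    ([.t7, .t2, .t5, .t8, .t1], [.t4, .t1, .t3, .t7, .t5, .t7, .t5, .t1])]⟩,
  ⟨0, 0, []⟩,
  ⟨0, 0, []⟩,
  ⟨0, 0, []⟩,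
  ⟨0, 0, []⟩,
  ⟨10, 1120, [([.t7, .t1, .t5, .t7], [.t1, .t2, .t3, .t4, .t7, .t5, .t8, .t4, .t1, .t2]),
    ([.t7, .t5, .t8, .t6, .t1], [.t8, .t0, .t4, .t0, .t8, .t2, .t1, .t5, .t3, .t4]),
    ([.t7, .t8, .t5, .t3, .t7], [.t0, .t7, .t3, .t4, .t8, .t4, .t3, .t7, .t0])]⟩]

/-- neighbours of the class 9 -/
def blk9 : Fin 16 → Blk := ![
  ⟨0, 0, []⟩,
  ⟨3, 16, [([.t7, .t6, .t1], [.t6, .t0, .t1])]⟩,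
  ⟨0, 0, []⟩,
  ⟨0, 0, []⟩,
  ⟨7, 1920, [([.t1], [.t7, .t5, .t6, .t1, .t5, .t2]),
    ([.t0, .t4, .t1], [.t0, .t1, .t6, .t5, .t1, .t6])]⟩,
  ⟨5, 256, [([.t2, .t0, .t1], [.t4, .t8, .t7, .t4, .t8, .t1, .t0, .t4, .t1])]⟩,
  ⟨0, 0, []⟩,
  ⟨0, 0, []⟩,
  ⟨0, 0, []⟩,
  ⟨3, 16, [([.t7, .t0, .t1], [.t1, .t6, .t0, .t1]),
    ([.t7, .t0, .t4, .t1], [.t1, .t6, .t0, .t1])]⟩,
  ⟨7, 2560, [([], []),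
    ([.t4], [])]⟩,
  ⟨5, 256, [([.t5, .t0, .t1], [])]⟩,
  ⟨0, 0, []⟩,
  ⟨0, 0, []⟩,
  ⟨7, 3072, [([.t7, .t2, .t7], [.t0, .t4, .t6, .t1, .t2, .t8, .t5, .t7, .t1, .t0])]⟩,
  ⟨0, 0, []⟩]

/-- neighbours of the class 10 -/
def blk10 : Fin 16 → Blk := ![
  ⟨0, 0, []⟩,
  ⟨0, 0, []⟩,
  ⟨4, 16, [([.t7, .t6, .t1], [.t7, .t0, .t1])]⟩,
  ⟨0, 0, []⟩,
  ⟨0, 0, []⟩,
  ⟨0, 0, []⟩,
  ⟨10, 3840, [([.t1], [.t7, .t5, .t6, .t1, .t8, .t2]),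
    ([.t7], [.t0, .t2, .t8, .t2, .t6, .t5, .t1, .t6, .t8, .t0, .t4]),
    ([.t4, .t1], [.t7, .t5, .t6, .t1, .t8, .t2]),
    ([.t7, .t4], [.t0, .t2, .t8, .t2, .t6, .t5, .t1, .t6, .t8, .t0, .t4]),
    ([.t7, .t2, .t1], [.t4, .t5, .t1, .t5, .t7, .t0, .t1, .t5, .t0]),
    ([.t0, .t4, .t1], [.t0, .t1, .t5, .t8, .t2, .t0, .t1]),
    ([.t7, .t4, .t1], [.t5, .t6, .t2, .t8, .t1, .t6, .t4, .t1])]⟩,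
  ⟨0, 0, []⟩,
  ⟨7, 256, [([.t1, .t2, .t7], [.t2, .t4, .t7, .t8, .t3, .t4, .t8, .t1]),
    ([.t5, .t3, .t7, .t2, .t1], [.t4, .t2, .t7, .t8, .t3, .t4, .t8, .t1])]⟩,
  ⟨5, 64, [([], []),
    ([.t4], [])]⟩,
  ⟨5, 80, [([.t7, .t0, .t1], [.t1, .t5, .t4, .t1]),
    ([.t1, .t6, .t0, .t1], [.t1, .t6, .t0, .t5, .t4, .t1]),
    ([.t7, .t0, .t4, .t1], [.t1, .t5, .t4, .t1]),
    ([.t4, .t1, .t6, .t0, .t1], [.t1, .t6, .t0, .t5, .t4, .t1]),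
    ([.t8, .t0, .t5, .t7, .t1], [.t1, .t5, .t4, .t1]),
    ([.t1, .t6, .t0, .t1, .t3], [.t1, .t6, .t0, .t5, .t4, .t1])]⟩,
  ⟨0, 0, []⟩,
  ⟨9, 1024, [([.t2, .t0, .t1], [.t7, .t4, .t7, .t8, .t7, .t3, .t2, .t1]),
    ([.t6, .t8, .t7], [.t2, .t8, .t5, .t7, .t1, .t6, .t8, .t7, .t1])]⟩,
  ⟨9, 1024, [([.t5, .t0, .t1], []),
    ([.t0, .t8, .t7], [.t2, .t7, .t1, .t8, .t4, .t1, .t2])]⟩,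
  ⟨0, 0, []⟩,
  ⟨9, 1792, [([.t7, .t8, .t1], [.t5, .t3, .t0, .t1, .t0, .t5, .t3]),
    ([.t7, .t2, .t7], [.t1, .t0, .t6, .t8, .t5, .t8, .t1, .t0, .t5, .t4, .t1, .t0]),
    ([.t1, .t2, .t0, .t1], [.t0, .t1, .t0, .t4, .t7, .t5, .t8, .t1, .t5, .t4, .t0]),
    ([.t5, .t7, .t2, .t1], [.t4, .t1, .t6, .t5, .t1, .t6, .t4, .t0]),
    ([.t2, .t4, .t7, .t3], [.t1, .t4, .t0, .t2, .t4, .t7, .t1, .t8, .t0, .t4, .t1, .t0])]⟩]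

/-- neighbours of the class 11 -/
def blk11 : Fin 16 → Blk := ![
  ⟨0, 0, []⟩,
  ⟨0, 0, []⟩,
  ⟨0, 0, []⟩,
  ⟨0, 0, []⟩,
  ⟨0, 0, []⟩,
  ⟨4, 1232, [([.t1], [.t4, .t8, .t7, .t4, .t8, .t1, .t0, .t4, .t1]),
    ([.t4, .t1], [.t4, .t8, .t7, .t4, .t8, .t1, .t0, .t4, .t1])]⟩,
  ⟨0, 0, []⟩,
  ⟨0, 0, []⟩,
  ⟨0, 0, []⟩,
  ⟨5, 1232, [([.t6, .t1], [.t0])]⟩,
  ⟨0, 0, []⟩,
  ⟨0, 0, []⟩,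
  ⟨0, 0, []⟩,
  ⟨5, 5632, [([], [.t7, .t1, .t8, .t1, .t2]),
    ([.t3], [.t7, .t1, .t8, .t1, .t2])]⟩,
  ⟨0, 0, []⟩,
  ⟨0, 0, []⟩]

/-- neighbours of the class 12 -/
def blk12 : Fin 16 → Blk := ![
  ⟨0, 0, []⟩,
  ⟨0, 0, []⟩,
  ⟨0, 0, []⟩,
  ⟨0, 0, []⟩,
  ⟨0, 0, []⟩,
  ⟨4, 80, [([.t3, .t1], [.t1, .t6, .t5, .t4, .t7, .t5, .t3]),
    ([.t6, .t1], [.t5, .t3, .t4, .t1, .t0, .t5]),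
    ([.t7, .t3, .t4, .t1], [.t1, .t6, .t5, .t4, .t7, .t5, .t3])]⟩,
  ⟨5, 1440, [([.t1], [.t1, .t4, .t2, .t7, .t6, .t8, .t6, .t3, .t4]),
    ([.t7], [.t0, .t2, .t8, .t7, .t5, .t4, .t1, .t8, .t4, .t6]),
    ([.t7, .t4], [.t0, .t2, .t8, .t7, .t5, .t4, .t1, .t8, .t4, .t6]),
    ([.t2, .t7, .t1], [.t7, .t3, .t1, .t6, .t8, .t5, .t1, .t5, .t4, .t1]),
    ([.t4, .t7, .t1], [.t4, .t0, .t8, .t0, .t1, .t8, .t5, .t2, .t1]),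
    ([.t7, .t0, .t4], [.t0, .t2, .t8, .t7, .t5, .t4, .t1, .t8, .t4, .t6]),
    ([.t1, .t8, .t4], [.t1, .t4, .t2, .t7, .t6, .t8, .t6, .t3, .t4]),
    ([.t4, .t3, .t7], [.t8, .t7, .t5, .t4, .t1, .t8, .t4, .t6]),
    ([.t7, .t6, .t0, .t1], [.t4, .t6, .t8, .t0, .t1, .t6, .t0])]⟩,
  ⟨5, 960, [([.t7, .t1], [.t7, .t2, .t8, .t7, .t4, .t2, .t0]),
    ([.t4, .t7], [.t0, .t7, .t2, .t8, .t4, .t7, .t2, .t4, .t8, .t0]),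
    ([.t4, .t0, .t1], [.t7, .t8, .t7, .t4, .t2, .t4, .t0]),
    ([.t7, .t4, .t1], [.t7, .t2, .t8, .t7, .t4, .t2, .t0]),
    ([.t7, .t6, .t1], [.t4, .t8, .t7, .t1, .t8, .t0]),
    ([.t6, .t8, .t1], [.t7, .t3, .t2, .t4, .t2, .t1, .t6]),
    ([.t4, .t7, .t3], [.t0, .t7, .t2, .t8, .t4, .t7, .t2, .t4, .t8, .t0]),
    ([.t8, .t4, .t0, .t1], [.t7, .t8, .t7, .t4, .t2, .t4, .t0]),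
    ([.t5, .t7, .t4, .t1], [.t7, .t2, .t8, .t7, .t4, .t2, .t0]),
    ([.t7, .t3, .t4, .t7], [.t0, .t7, .t2, .t8, .t4, .t7, .t2, .t4, .t8, .t0])]⟩,
  ⟨0, 0, []⟩,
  ⟨0, 0, []⟩,
  ⟨4, 80, [([.t7, .t8, .t0, .t4, .t7], [.t6, .t1, .t8, .t6, .t5, .t8, .t3]),
    ([.t7, .t1, .t2, .t4, .t7], [.t8, .t7, .t4, .t2, .t4, .t7, .t8])]⟩,
  ⟨0, 0, []⟩,
  ⟨5, 2480, [([], [.t0]),
    ([.t3], [.t0]),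
    ([.t0, .t1], [.t4, .t8, .t7, .t1, .t5, .t1, .t3]),
    ([.t8, .t1], [.t7, .t4, .t5, .t7, .t5, .t8, .t7, .t3, .t2]),
    ([.t8, .t4], [.t0]),
    ([.t8, .t7], [.t3, .t0, .t4, .t3, .t0, .t1]),
    ([.t0, .t4, .t1], [.t4, .t8, .t7, .t1, .t5, .t1, .t3]),
    ([.t8, .t6, .t1], [.t1, .t8, .t0, .t4, .t8, .t4, .t7, .t2, .t1, .t3]),
    ([.t0, .t4, .t7], [.t0, .t8, .t2, .t4, .t8, .t7, .t0, .t4, .t8]),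
    ([.t8, .t6, .t4, .t1], [.t1, .t8, .t0, .t4, .t8, .t4, .t7, .t2, .t1, .t3]),
    ([.t0, .t4, .t7, .t4], [.t0, .t8, .t2, .t4, .t8, .t7, .t0, .t4, .t8]),
    ([.t8, .t2, .t4, .t7], [.t3, .t7, .t2, .t4, .t6, .t1, .t0, .t8, .t2]),
    ([.t4, .t8, .t4, .t0, .t1], [.t4, .t8, .t7, .t1, .t5, .t1, .t3]),
    ([.t8, .t0, .t5, .t0, .t1], [.t7, .t1, .t5, .t7, .t1, .t5, .t4]),
    ([.t8, .t0, .t4, .t7, .t3], [.t1, .t7, .t5, .t7, .t8, .t1, .t5, .t4])]⟩,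
  ⟨4, 320, [([.t2, .t0, .t4, .t7], [.t3, .t6, .t8, .t1, .t5, .t6, .t8, .t4, .t8, .t1, .t5, .t1]),
    ([.t7, .t2, .t4, .t7], [.t5, .t7, .t5, .t8, .t6, .t5, .t8, .t4, .t0]),
    ([.t7, .t2, .t4, .t7, .t3], [.t5, .t7, .t5, .t8, .t6, .t5, .t8, .t4, .t0]),
    ([.t7, .t8, .t3, .t4, .t7], [.t7, .t1, .t5, .t8, .t0, .t1, .t0]),
    ([.t7, .t8, .t7, .t4, .t7], [.t7, .t1, .t5, .t8, .t0, .t1, .t0]),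
    ([.t2, .t8, .t4, .t8, .t7], [.t8, .t1, .t5, .t1, .t8, .t3, .t2]),
    ([.t1, .t8, .t1, .t5, .t8, .t1], [.t7, .t4]),
    ([.t8, .t3, .t1, .t8, .t5, .t7], [.t7, .t4])]⟩,
  ⟨4, 816, [([.t8, .t4, .t2, .t7], [.t0, .t8, .t6, .t3, .t0, .t4, .t2, .t8]),
    ([.t3, .t2, .t4, .t7], [.t0, .t1, .t2, .t3, .t4, .t8, .t7, .t5, .t6, .t8]),
    ([.t1, .t8, .t4, .t8, .t1], [.t2, .t8, .t1, .t5, .t8, .t3, .t0, .t4, .t0]),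
    ([.t3, .t2, .t4, .t7, .t4], [.t0, .t1, .t2, .t3, .t4, .t8, .t7, .t5, .t6, .t8]),
    ([.t2, .t7, .t2, .t4, .t7], [.t2, .t8, .t1, .t5, .t8, .t3, .t0, .t4, .t0]),
    ([.t3, .t7, .t2, .t4, .t7], [.t1, .t8, .t5, .t6, .t1, .t8, .t3, .t0, .t4, .t2]),
    ([.t8, .t7, .t0, .t5, .t7], [.t2, .t1, .t0, .t8, .t3, .t7, .t5, .t8]),
    ([.t0, .t8, .t4, .t8, .t3, .t1], [.t3, .t4, .t8, .t7, .t5, .t8])]⟩,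
  ⟨5, 1920, [([.t2, .t7], [.t0, .t1, .t3, .t4, .t7, .t2, .t7, .t2, .t4, .t0]),
    ([.t5, .t7], [.t0, .t6, .t5, .t4, .t3, .t7, .t1, .t2]),
    ([.t8, .t0, .t1], [.t7, .t4, .t7, .t2, .t7, .t2]),
    ([.t0, .t8, .t1], [.t7, .t1, .t6, .t5, .t1, .t6, .t0]),
    ([.t1, .t8, .t1], [.t7, .t1, .t6, .t2, .t4, .t0]),
    ([.t2, .t7, .t4], [.t0, .t1, .t3, .t4, .t7, .t2, .t7, .t2, .t4, .t0]),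
    ([.t5, .t7, .t4], [.t0, .t6, .t5, .t4, .t3, .t7, .t1, .t2]),
    ([.t3, .t1, .t8, .t1], [.t7, .t1, .t6, .t2, .t4, .t0]),
    ([.t8, .t4, .t8, .t1], [.t0, .t2, .t7, .t8, .t6, .t5, .t7, .t8, .t4]),
    ([.t0, .t8, .t1, .t3], [.t7, .t1, .t6, .t5, .t1, .t6, .t0]),
    ([.t2, .t7, .t0, .t4], [.t0, .t1, .t3, .t4, .t7, .t2, .t7, .t2, .t4, .t0])]⟩]

/-- neighbours of the class 13 -/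
def blk13 : Fin 16 → Blk := ![
  ⟨0, 0, []⟩,
  ⟨0, 0, []⟩,
  ⟨0, 0, []⟩,
  ⟨0, 0, []⟩,
  ⟨0, 0, []⟩,
  ⟨0, 0, []⟩,
  ⟨0, 0, []⟩,
  ⟨5, 672, [([.t8, .t6, .t1], [.t3, .t1, .t4, .t8, .t0, .t5, .t8, .t3, .t2]),
    ([.t5, .t8, .t0, .t1], [.t1, .t4, .t5, .t7, .t2, .t7, .t8, .t3, .t4, .t8])]⟩,
  ⟨0, 0, []⟩,
  ⟨0, 0, []⟩,
  ⟨5, 560, [([.t6, .t1], [.t0, .t4, .t1, .t0, .t5, .t2, .t1]),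
    ([.t6, .t2, .t1], [.t3, .t1, .t2, .t0, .t1, .t3])]⟩,
  ⟨3, 16, [([.t3, .t1], []),
    ([.t1, .t3, .t1], [])]⟩,
  ⟨5, 2240, [([.t1], [.t7, .t4, .t7, .t8, .t7, .t3, .t2, .t1]),
    ([.t0, .t1], [.t5, .t7, .t5, .t4, .t7]),
    ([.t4, .t1], [.t7, .t4, .t7, .t8, .t7, .t3, .t2, .t1]),
    ([.t2, .t7], [.t2, .t1, .t8, .t4, .t1, .t2, .t7]),
    ([.t4, .t7], [.t0, .t2, .t1, .t4, .t2, .t8, .t5, .t7, .t6, .t0, .t8]),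
    ([.t4, .t2, .t1], [.t5, .t7, .t5, .t4, .t0, .t1, .t3, .t7, .t1, .t0]),
    ([.t4, .t7, .t3], [.t0, .t2, .t1, .t4, .t2, .t8, .t5, .t7, .t6, .t0, .t8]),
    ([.t2, .t7, .t4], [.t2, .t1, .t8, .t4, .t1, .t2, .t7])]⟩,
  ⟨3, 16, [([.t6, .t3, .t0, .t1], [.t1, .t8, .t7, .t1, .t2, .t0]),
    ([.t6, .t0, .t1, .t3, .t1], [.t1, .t8, .t7, .t1, .t2, .t0])]⟩,
  ⟨6, 2352, [([], [.t2, .t1, .t3, .t7, .t0, .t8, .t7, .t1]),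
    ([.t3], [.t2, .t1, .t3, .t7, .t0, .t8, .t7, .t1]),
    ([.t4], [.t2, .t1, .t3, .t7, .t0, .t8, .t7, .t1]),
    ([.t8, .t4], [.t2, .t1, .t3, .t7, .t0, .t8, .t7, .t1]),
    ([.t8, .t0, .t1], [.t3, .t1, .t6, .t1, .t3]),
    ([.t4, .t8, .t0, .t1], [.t3, .t1, .t0, .t5, .t2, .t1, .t3])]⟩,
  ⟨6, 2240, [([.t3, .t4, .t2, .t7], [.t1, .t8, .t1, .t5, .t8, .t2, .t4, .t7, .t5, .t8, .t5]),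
    ([.t8, .t4, .t2, .t7], [.t2, .t5, .t1, .t8, .t4, .t7, .t5, .t7, .t1, .t2, .t4]),
    ([.t2, .t0, .t4, .t7], [.t1, .t0, .t2, .t4, .t8, .t3, .t7, .t0, .t1, .t0]),
    ([.t8, .t7, .t4, .t7], [.t8, .t7, .t4, .t6, .t8, .t6, .t2, .t0])]⟩]

/-- neighbours of the class 14 -/
def blk14 : Fin 16 → Blk := ![
  ⟨0, 0, []⟩,
  ⟨0, 0, []⟩,
  ⟨0, 0, []⟩,
  ⟨0, 0, []⟩,
  ⟨0, 0, []⟩,
  ⟨0, 0, []⟩,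
  ⟨5, 960, [([.t6, .t1], [.t3, .t4, .t7, .t0, .t8, .t3, .t4, .t3, .t1]),
    ([.t3, .t7], [.t7, .t4, .t2, .t8, .t3, .t1, .t0, .t4]),
    ([.t6, .t2, .t1], [.t0, .t2, .t3, .t4, .t7, .t5, .t6, .t1, .t5]),
    ([.t4, .t3, .t7], [.t7, .t4, .t2, .t8, .t3, .t1, .t0, .t4])]⟩,
  ⟨5, 256, [([.t7, .t2, .t1], [.t1, .t3, .t1, .t8, .t5, .t4, .t2, .t8, .t4]),
    ([.t7, .t4, .t2, .t1], [.t1, .t3, .t1, .t8, .t5, .t4, .t2, .t8, .t4])]⟩,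
  ⟨0, 0, []⟩,
  ⟨3, 16, [([.t6, .t0, .t1], [.t7, .t4, .t7, .t6, .t3, .t0])]⟩,
  ⟨0, 0, []⟩,
  ⟨0, 0, []⟩,
  ⟨5, 2176, [([.t2, .t7], [.t0, .t5, .t4, .t7, .t8, .t3, .t1, .t6]),
    ([.t2, .t7, .t4], [.t0, .t5, .t4, .t7, .t8, .t3, .t1, .t6]),
    ([.t3, .t4, .t7], [.t7, .t8, .t0, .t4, .t1, .t0, .t5, .t8, .t7]),
    ([.t7, .t4, .t7], [.t7, .t8, .t0, .t4, .t1, .t0, .t5, .t8, .t7]),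
    ([.t8, .t4, .t7], [.t0, .t4, .t5, .t2, .t5, .t8, .t5, .t1, .t8, .t2]),
    ([.t1, .t5, .t7], [.t8, .t6, .t5, .t7, .t8, .t3, .t0, .t1, .t0]),
    ([.t7, .t5, .t7], [.t2, .t1, .t3, .t7, .t8, .t5, .t1, .t8, .t2, .t4, .t3]),
    ([.t7, .t8, .t4, .t7, .t3], [.t1, .t2, .t4, .t3, .t7, .t2, .t4, .t7, .t1, .t8])]⟩,
  ⟨5, 896, [([], [.t6, .t3, .t1, .t2, .t0, .t1, .t0]),
    ([.t3], [.t6, .t3, .t1, .t2, .t0, .t1, .t0]),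
    ([.t4], [.t6, .t3, .t1, .t2, .t0, .t1, .t0]),
    ([.t8, .t4], [.t6, .t3, .t1, .t2, .t0, .t1, .t0]),
    ([.t4, .t2, .t7, .t1], [.t3, .t4, .t3]),
    ([.t8, .t4, .t8, .t0, .t1], [.t4, .t7, .t8, .t1, .t8, .t5, .t1])]⟩,
  ⟨5, 1552, [([.t1], [.t1]),
    ([.t4, .t1], [.t1]),
    ([.t1, .t3], [.t1]),
    ([.t8, .t7], [.t1, .t8, .t4, .t3, .t8, .t4, .t7, .t1, .t2, .t7, .t2, .t0]),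
    ([.t8, .t7, .t4], [.t1, .t8, .t4, .t3, .t8, .t4, .t7, .t1, .t2, .t7, .t2, .t0]),
    ([.t4, .t2, .t7, .t3], [.t7, .t4, .t0, .t8, .t5, .t7, .t8, .t4, .t6, .t4, .t1]),
    ([.t5, .t2, .t7, .t4], [.t1, .t8, .t1, .t4, .t8, .t7, .t5, .t7, .t8, .t2, .t0])]⟩,
  ⟨6, 2240, [([.t7], [.t0, .t1, .t2, .t8, .t1, .t0, .t5, .t8, .t2, .t0]),
    ([.t0, .t1], [.t1, .t5, .t8, .t1, .t8, .t7, .t4, .t7]),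
    ([.t8, .t1], [.t1, .t3, .t1, .t5, .t8, .t1, .t3, .t4]),
    ([.t7, .t4], [.t0, .t1, .t2, .t8, .t1, .t0, .t5, .t8, .t2, .t0]),
    ([.t4, .t7], [.t0, .t3, .t4, .t7, .t5, .t7, .t8, .t4, .t3]),
    ([.t7, .t0, .t1], []),
    ([.t4, .t2, .t1], [.t1, .t6, .t5, .t8, .t5, .t6, .t1]),
    ([.t7, .t4, .t1], [.t6, .t1, .t3, .t2, .t0, .t4, .t3]),
    ([.t7, .t8, .t4], [.t0, .t1, .t2, .t8, .t1, .t0, .t5, .t8, .t2, .t0])]⟩]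

/-- neighbours of the class 15 -/
def blk15 : Fin 16 → Blk := ![
  ⟨0, 0, []⟩,
  ⟨0, 0, []⟩,
  ⟨0, 0, []⟩,
  ⟨0, 0, []⟩,
  ⟨6, 48, [([.t2, .t0, .t1], [.t5, .t3, .t1, .t8, .t6, .t2, .t4, .t0]),
    ([.t4, .t6, .t0, .t1], [.t5, .t3, .t1, .t2, .t4, .t0])]⟩,
  ⟨0, 0, []⟩,
  ⟨10, 576, [([.t2, .t7], [.t0, .t1, .t8, .t1, .t8, .t5, .t4, .t1, .t8, .t6, .t0]),
    ([.t2, .t7, .t4], [.t0, .t1, .t8, .t1, .t8, .t5, .t4, .t1, .t8, .t6, .t0]),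
    ([.t3, .t4, .t7], [.t0, .t8, .t1, .t5, .t2, .t8, .t1, .t0, .t8, .t7, .t4]),
    ([.t8, .t4, .t7], [.t1, .t6, .t1, .t4, .t8, .t1, .t5, .t3, .t7, .t4, .t2, .t0])]⟩,
  ⟨10, 768, [([.t6, .t1], [.t0, .t1, .t5, .t0, .t1]),
    ([.t3, .t7], [.t3, .t1, .t8, .t4, .t2, .t8, .t3, .t2, .t0]),
    ([.t4, .t7, .t1], [.t1, .t3, .t1, .t5, .t8, .t4, .t3, .t4]),
    ([.t0, .t8, .t4, .t1], [.t1, .t5, .t7, .t3, .t1, .t6])]⟩,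
  ⟨7, 32, [([.t8, .t1], [.t5, .t3, .t1, .t2, .t4, .t8]),
    ([.t8, .t4, .t1], [.t5, .t3, .t1, .t2, .t4, .t8]),
    ([.t4, .t6, .t1], [.t5, .t7, .t4, .t3, .t4, .t7, .t6, .t3])]⟩,
  ⟨0, 0, []⟩,
  ⟨8, 224, [([.t4, .t0, .t1], [.t5, .t0, .t1, .t3, .t1, .t0]),
    ([.t8, .t4, .t0, .t1], [.t5, .t0, .t1, .t3, .t1, .t0]),
    ([.t0, .t4, .t2, .t7], [.t0, .t5, .t8, .t4, .t2, .t7, .t4, .t2, .t7, .t1]),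
    ([.t5, .t4, .t7, .t6, .t1], [.t4, .t8, .t7, .t5, .t2, .t5, .t3, .t1, .t0]),
    ([.t7, .t5, .t8, .t6, .t1], [.t2, .t4, .t7, .t8, .t3, .t2, .t4, .t8, .t7, .t0])]⟩,
  ⟨0, 0, []⟩,
  ⟨10, 3072, [([], [.t2, .t7, .t4, .t0, .t1, .t8, .t2, .t1]),
    ([.t3], [.t2, .t7, .t4, .t0, .t1, .t8, .t2, .t1]),
    ([.t4], [.t2, .t7, .t4, .t0, .t1, .t8, .t2, .t1]),
    ([.t7], [.t1, .t8, .t0, .t6, .t2, .t8, .t1, .t5, .t7, .t1]),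
    ([.t7, .t4], [.t1, .t8, .t0, .t6, .t2, .t8, .t1, .t5, .t7, .t1]),
    ([.t4, .t7], [.t1, .t3, .t7, .t5, .t1, .t0, .t8, .t5]),
    ([.t7, .t4, .t1], [.t5, .t0, .t1, .t5, .t0, .t1, .t5, .t7]),
    ([.t7, .t0, .t4], [.t1, .t8, .t0, .t6, .t2, .t8, .t1, .t5, .t7, .t1]),
    ([.t4, .t7, .t4], [.t1, .t3, .t7, .t5, .t1, .t0, .t8, .t5]),
    ([.t7, .t8, .t4], [.t1, .t8, .t0, .t6, .t2, .t8, .t1, .t5, .t7, .t1]),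
    ([.t4, .t8, .t7], [.t8, .t2, .t0, .t1, .t6, .t0, .t4, .t7])]⟩,
  ⟨10, 512, [([.t5, .t2, .t7], [.t3, .t8, .t1, .t5, .t8, .t4, .t8, .t4, .t1, .t2, .t1, .t0]),
    ([.t5, .t2, .t7, .t4], [.t3, .t8, .t1, .t5, .t8, .t4, .t8, .t4, .t1, .t2, .t1, .t0]),
    ([.t8, .t5, .t2, .t7], [.t8, .t4, .t5, .t7, .t4, .t2, .t7, .t1, .t8, .t2, .t0]),
    ([.t4, .t8, .t4, .t8, .t7], [.t1, .t7, .t5, .t2, .t8, .t4, .t6, .t8, .t0])]⟩,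
  ⟨10, 1344, [([.t8, .t7], [.t7, .t8, .t7]),
    ([.t8, .t7, .t4], [.t7, .t8, .t7]),
    ([.t4, .t2, .t7], [.t0, .t8, .t7, .t0, .t1, .t0, .t5, .t8, .t3, .t0]),
    ([.t0, .t4, .t7], [.t1, .t8, .t7, .t5, .t7, .t5, .t8, .t1]),
    ([.t4, .t2, .t7, .t1], [.t3, .t4, .t1, .t0, .t8, .t0, .t1, .t3]),
    ([.t4, .t2, .t7, .t4], [.t0, .t8, .t7, .t0, .t1, .t0, .t5, .t8, .t3, .t0]),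
    ([.t5, .t8, .t7, .t4], [.t3, .t5, .t7, .t8, .t5, .t8, .t1, .t6]),
    ([.t7, .t4, .t2, .t7], [.t0, .t8, .t7, .t0, .t1, .t0, .t5, .t8, .t3, .t0]),
    ([.t5, .t8, .t3, .t0, .t1], [.t1, .t3, .t4, .t2, .t7, .t2, .t8, .t1])]⟩,
  ⟨10, 1520, [([.t1], [.t1]),
    ([.t4, .t1], [.t1]),
    ([.t1, .t3], [.t1]),
    ([.t0, .t5, .t7], [.t0, .t3, .t8, .t6, .t1, .t5, .t8, .t2, .t7, .t4, .t0]),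
    ([.t8, .t5, .t0, .t1], [.t1, .t2, .t7, .t2]),
    ([.t4, .t8, .t3, .t1], [.t0, .t1, .t5, .t1, .t0]),
    ([.t5, .t1, .t8, .t1], [.t5, .t0, .t1, .t0, .t5]),
    ([.t0, .t5, .t7, .t4], [.t0, .t3, .t8, .t6, .t1, .t5, .t8, .t2, .t7, .t4, .t0]),
    ([.t6, .t4, .t2, .t7], [.t0, .t1, .t3, .t7, .t5, .t7, .t3, .t1, .t0]),
    ([.t5, .t2, .t4, .t7], [.t0, .t3, .t4, .t7, .t5, .t8, .t7, .t0, .t1]),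
    ([.t5, .t3, .t4, .t7], [.t0, .t1, .t3, .t7, .t5, .t7, .t3, .t1, .t0]),
    ([.t0, .t5, .t4, .t7], [.t7, .t3, .t4, .t2, .t8, .t5, .t1, .t5, .t7]),
    ([.t3, .t4, .t8, .t0, .t1], [.t2, .t4, .t3, .t7, .t5, .t3, .t2, .t4, .t0, .t8]),
    ([.t1, .t5, .t8, .t6, .t1], [.t7, .t3, .t4, .t2, .t8, .t5, .t1, .t5, .t7]),
    ([.t0, .t1, .t5, .t7, .t4], [.t2, .t4, .t3, .t7, .t5, .t3, .t2, .t4, .t0, .t8]),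
    ([.t7, .t5, .t8, .t4, .t7], [.t0, .t5, .t8, .t4, .t6, .t8, .t2, .t7, .t4, .t3])]⟩]

/-- all blocks -/
def blk : Fin 16 → Fin 16 → Blk := ![blk0, blk1, blk2, blk3, blk4, blk5, blk6, blk7, blk8, blk9, blk10, blk11, blk12, blk13, blk14, blk15]

end Cfsg.Agent.H293.F23B
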