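import Cfsg.Agent.H293.F23B.Base

/-!
# The action of `Fi23` on the bases: the stabiliser `Hs`, transpositions of points, blocks of neighbours
-/

set_option autoImplicit false
set_option maxRecDepth 100000
set_option exponentiation.threshold 40000

namespace Cfsg.Agent.H293.F23B

open Cfsg.Agent.Fischer Cfsg.Agent.Lib.PermNet Cfsg.Agent.Lib.PermNetOrbit Cfsg.Agent.Fischer.Fi23Nets
  Cfsg.Agent.Fischer.Fi23Rel Cfsg.Agent.Fischer.Fi23Hom Cfsg.Agent.Fischer.Fi23Orb Cfsg.Agent.Fischer.Fi23OrbData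
  Cfsg.Agent.Fischer.Fi23Z Cfsg.Agent.Fischer.Fi23Final Cfsg.Agent.Fischer.Fi23Simple
open Cfsg.Spor Cfsg.Spor.Fi23

/-- the stabiliser of a set of points given by a mask -/
def stM (U : ℕ) : Subgroup Fi23 where
  carrier := {g | ∀ p, U.testBit (rho g p) = U.testBit p}
  mul_mem' := by
    intro a b ha hb p
    rw [map_mul, Equiv.Perm.mul_apply, ha, hb]
  one_mem' := by intro p; rw [map_one]; rfl
  inv_mem' := by
    intro a ha p
    have h := ha (rho a⁻¹ p)
    rw [← Equiv.Perm.mul_apply, ← map_mul, mul_inv_cancel, map_one] at h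
    exact h.symm

/-- the stabiliser of the base -/
noncomputable abbrev Hs : Subgroup Fi23 := stM B0

theorem W_mem_of_closed {U : ℕ} (hU : closedB tn U = true) {l : List Lt} (hl : ∀ x ∈ l, x ∈ tl) : W l ∈ stM U := by
  induction l with
  | nil => exact (stM U).one_mem
  | cons x l ih =>
    rw [W_cons]
    refine (stM U).mul_mem ?_ (ih fun y hy => hl y (List.mem_cons_of_mem _ hy))
    have hx := hl x List.mem_cons_self
    intro p
    have h1 := closedB_spec (N := 2 ^ 15) (ws := tn) (by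
      intro w hw
      obtain ⟨y, _, rfl⟩ := List.mem_map.1 hw
      exact wok [y]) hU [nt x] (List.mem_map.2 ⟨x, hx, rfl⟩) p
    rw [wperm_cons, wperm_nil, mul_one, ← rho_el] at h1
    exact h1

theorem W_mem {l : List Lt} (hl : ∀ x ∈ l, x ∈ tl) : W l ∈ Hs := W_mem_of_closed B0_closed hl

/-- equality of images of the base gives equality of cosets -/
theorem coset_of_mv {l l' : List Lt} (h : Nat.beq (mv B0 l) (mv B0 l') = true) : (W l)⁻¹ * W l' ∈ Hs := by
  have h1 := Nat.eq_of_beq_eq_true h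
  intro p
  have h2 := congrArg (fun x => x.testBit (rho (W l') p)) h1
  simp only [testBit_mv] at h2
  rw [map_mul, Equiv.Perm.mul_apply, h2, ← Equiv.Perm.mul_apply, ← map_mul, inv_mul_cancel, map_one]
  rfl

/-! ### Transpositions of points -/

theorem act : (∀ g, rho g 0 = 0 ↔ g ∈ Fi23Orb.H) ∧ (∀ g, rho g 0 < 31671) := by
  obtain ⟨-, h1, h2, -⟩ := index_and_suborbits (by rw [index_H]) (by rw [index_H]; norm_num)
  exact ⟨h1, h2⟩

theorem comm_of_fix {g : Fi23} (h : rho g 0 = 0) : g * z0 = z0 * g :=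
  h_comm card_Fi23.le g ((act.1 g).1 h)

theorem rho_lt {q : ℕ} (hq : q < 31671) (g : Fi23) : rho g q < 31671 := by
  obtain ⟨v, rfl⟩ := Fi23Orb.trans q hq
  rw [← Equiv.Perm.mul_apply, ← map_mul]
  exact act.2 _

open Classical in
/-- the transposition of a point -/
noncomputable def zt (q : ℕ) : Fi23 := if h : ∃ v, rho v 0 = q then h.choose * z0 * h.choose⁻¹ else 1

theorem zt_of {v : Fi23} {q : ℕ} (h : rho v 0 = q) : zt q = v * z0 * v⁻¹ := by
  have h1 : ∃ v, rho v 0 = q := ⟨v, h⟩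
  unfold zt
  rw [dif_pos h1]
  have h2 := h1.choose_spec
  generalize h1.choose = w at h2
  have h3 : rho (w⁻¹ * v) 0 = 0 := by
    rw [map_mul, Equiv.Perm.mul_apply, h, ← h2, ← Equiv.Perm.mul_apply, ← map_mul, inv_mul_cancel, map_one]
    rfl
  have h4 := comm_of_fix h3
  calc w * z0 * w⁻¹ = w * (z0 * (w⁻¹ * v)) * v⁻¹ := by group
    _ = w * ((w⁻¹ * v) * z0) * v⁻¹ := by rw [h4]
    _ = v * z0 * v⁻¹ := by group

theorem zt_conj (g : Fi23) {q : ℕ} (hq : q < 31671) : zt (rho g q) = g * zt q * g⁻¹ := by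
  obtain ⟨v, rfl⟩ := Fi23Orb.trans q hq
  rw [zt_of (v := g * v) (by rw [map_mul]; rfl), zt_of (v := v) rfl]
  group

theorem z0_sq' : z0 * z0 = 1 := by
  have h := el_sq .z
  rwa [el_z] at h

theorem zt_sq (q : ℕ) : zt q * zt q = 1 := by
  by_cases h : ∃ v, rho v 0 = q
  · obtain ⟨v, hv⟩ := h
    rw [zt_of hv]
    calc v * z0 * v⁻¹ * (v * z0 * v⁻¹) = v * (z0 * z0) * v⁻¹ := by group
      _ = 1 := by rw [z0_sq']; group
  · unfold zt
    rw [dif_neg h, one_mul]

/-! ### Invariants of double cosets -/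

/-- the number of points of the image of the base in the set `U` -/
noncomputable def inv (U : ℕ) (x : Fi23) : ℕ := {p : ℕ | U.testBit p = true ∧ B0.testBit (rho x⁻¹ p) = true}.ncard

theorem inv_mul {U : ℕ} {h x k : Fi23} (hh : h ∈ stM U) (hk : k ∈ Hs) : inv U (h * x * k) = inv U x := by
  unfold inv
  rw [← Set.ncard_image_of_injective {p : ℕ | U.testBit p = true ∧ B0.testBit (rho x⁻¹ p) = true} (rho h).injective]
  congr 1
  ext p
  simp only [Set.mem_image, Set.mem_ofPred_eq]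
  have e : rho (h * x * k)⁻¹ p = rho k⁻¹ (rho x⁻¹ (rho h⁻¹ p)) := by
    rw [mul_inv_rev, mul_inv_rev, map_mul, map_mul, Equiv.Perm.mul_apply, Equiv.Perm.mul_apply]
  have e2 : rho h (rho h⁻¹ p) = p := by
    rw [← Equiv.Perm.mul_apply, ← map_mul, mul_inv_cancel, map_one]; rfl
  rw [e, Hs.inv_mem hk]
  constructor
  · rintro ⟨h1, h2⟩
    refine ⟨rho h⁻¹ p, ⟨?_, h2⟩, e2⟩
    rw [(stM U).inv_mem hh, h1]
  · rintro ⟨q, ⟨h1, h2⟩, rfl⟩
    have e3 : rho h⁻¹ (rho h q) = q := by
      rw [← Equiv.Perm.mul_apply, ← map_mul, inv_mul_cancel, map_one]; rfl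
    rw [e3]
    exact ⟨by rw [hh]; exact h1, h2⟩

theorem inv_W {U : ℕ} {l : List Lt} {m : ℕ}
    (h1 : Nat.beq (Nat.shiftRight (Nat.land (mv B0 l) U) (Nat.pow 2 (15 : ℕ))) 0 = true)
    (h2 : Nat.beq (pc 15 (Nat.land (mv B0 l) U)) m = true) : inv U (W l) = m := by
  rw [← ncard_testBit h1 h2]
  unfold inv
  congr 1
  ext p
  simp only [Set.mem_ofPred_eq]
  show _ ↔ (mv B0 l &&& U).testBit p = true
  rw [Nat.testBit_and, Bool.and_eq_true, testBit_mv]
  tauto

/-! ### The points commuting with seven points of the base -/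

theorem img_tn : ∀ w ∈ tn, wperm w ∈ Hs.map rho := by
  intro w hw
  obtain ⟨x, hx, rfl⟩ := List.mem_map.1 hw
  refine ⟨W [x], W_mem (by intro y hy; rw [List.mem_singleton.1 hy]; exact hx), ?_⟩
  rw [rho_W]
  rfl

theorem tn_ok : WsOk (2 ^ 15) tn := by
  intro w hw
  obtain ⟨y, _, rfl⟩ := List.mem_map.1 hw
  exact wok [y]

theorem exists_T7 {q : ℕ} (hq : T7.testBit q = true) : ∃ h ∈ Hs, rho h 0 = q := by
  rw [← Nat.eq_of_beq_eq_true T7_sat] at hq
  obtain ⟨g, ⟨h, hh, rfl⟩, h1⟩ := sat_point_spec tn_ok img_tn _ hq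
  exact ⟨h, hh, h1⟩

theorem exists_T1 {q : ℕ} (hq : T1.testBit q = true) : ∃ h ∈ Hs, rho h 16 = q := by
  rw [← Nat.eq_of_beq_eq_true T1_sat] at hq
  obtain ⟨g, ⟨h, hh, rfl⟩, h1⟩ := sat_point_spec tn_ok img_tn _ hq
  exact ⟨h, hh, h1⟩

theorem T7_lt' {q : ℕ} (hq : T7.testBit q = true) : q < 31671 := by
  obtain ⟨h, -, rfl⟩ := exists_T7 hq
  exact act.2 h

theorem T7_tb0 : T7.testBit 0 = true := (tb_eq T7 0).symm.trans T7_zero

theorem zt_zero : zt 0 = z0 := by
  rw [zt_of (v := 1) (by rw [map_one]; rfl)]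
  group

theorem inv_zt_conj {h : Fi23} (hh : h ∈ Hs) {q : ℕ} (hq : q < 31671) : inv B0 (zt (rho h q)) = inv B0 (zt q) := by
  rw [zt_conj h hq, inv_mul hh (Hs.inv_mem hh)]

theorem inv_T7 {q : ℕ} (hq : T7.testBit q = true) : inv B0 (zt q) = 7 := by
  obtain ⟨h, hh, rfl⟩ := exists_T7 hq
  rw [inv_zt_conj hh (by norm_num), zt_zero, ← inv_W z_lt z_pc, W_cons, W_nil, el_z, mul_one]

theorem w1_zero : rho (W w1) 0 = 16 := by
  rw [rho_W, ← ptWord_eq (wok w1)]
  exact Nat.eq_of_beq_eq_true w1_pt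

theorem inv_T1 {q : ℕ} (hq : T1.testBit q = true) : inv B0 (zt q) = 1 := by
  obtain ⟨h, hh, rfl⟩ := exists_T1 hq
  rw [inv_zt_conj hh (by norm_num), zt_of w1_zero, ← inv_W w1_lt w1_pc, W_append, W_cons, W_reverse, el_z, mul_assoc]

theorem cover' {q : ℕ} (hq : q < 31671) : T7.testBit q = true ∨ T1.testBit q = true ∨ B0.testBit q = true := by
  have h := Nat.eq_of_beq_eq_true cover
  have h1 : (T7 ||| (T1 ||| B0)).testBit q = true := by
    have h2 : (T7 ||| (T1 ||| B0)) = 2 ^ 31671 - 1 := h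
    rw [h2, Nat.testBit_two_pow_sub_one]
    simpa using hq
  rw [Nat.testBit_or, Nat.testBit_or, Bool.or_eq_true, Bool.or_eq_true] at h1
  exact h1

theorem Hs_le_T7 {h : Fi23} (hh : h ∈ Hs) {q : ℕ} (hq : T7.testBit q = true) : T7.testBit (rho h q) = true := by
  rcases cover' (rho_lt (T7_lt' hq) h) with h1 | h1 | h1
  · exact h1
  · exfalso
    have h2 := inv_T1 h1
    rw [inv_zt_conj hh (T7_lt' hq), inv_T7 hq] at h2
    omega
  · exfalso
    rw [hh q] at h1
    have h2 : (T7 &&& B0).testBit q = false := by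
      have h3 : T7 &&& B0 = 0 := Nat.eq_of_beq_eq_true disj
      rw [h3, Nat.zero_testBit]
    rw [Nat.testBit_and, hq, h1] at h2
    exact Bool.noConfusion h2

theorem Hs_stT7 {h : Fi23} (hh : h ∈ Hs) : h ∈ stM T7 := by
  intro q
  rw [Bool.eq_iff_iff]
  constructor
  · intro h1
    have h2 := Hs_le_T7 (Hs.inv_mem hh) h1
    rwa [← Equiv.Perm.mul_apply, ← map_mul, inv_mul_cancel, map_one] at h2
  · exact Hs_le_T7 hh

/-! ### Blocks -/

/-- a block of neighbours: number of rounds, number of points, representatives and transporters -/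
structure Blk where
  /-- rounds -/
  r : ℕ
  /-- number of points -/
  n : ℕ
  /-- representatives and transporters -/
  reps : List (List Lt × List Lt)

/-- letter of the stabiliser -/
def isT : Lt → Bool
  | .t0 => true
  | .t1 => true
  | .t2 => true
  | .t3 => true
  | .t4 => true
  | .t5 => true
  | .t6 => true
  | .t7 => true
  | .t8 => true
  | _ => false

theorem isT_mem {x : Lt} (h : isT x = true) : x ∈ tl := by
  cases x <;> first | exact Bool.noConfusion h | simp [tl]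

/-- word in the letters of the stabiliser -/
def allT (l : List Lt) : Bool := List.rec (motive := fun _ => Bool) true (fun x _ ih => and (isT x) ih) l

theorem allT_mem {l : List Lt} (h : allT l = true) : ∀ x ∈ l, x ∈ tl := by
  induction l with
  | nil => intro x hx; exact absurd hx (by simp)
  | cons y l ih =>
    have h' : and (isT y) (allT l) = true := h
    rw [Bool.and_eq_true] at h'
    intro x hx
    rcases List.mem_cons.1 hx with rfl | hx
    · exact isT_mem h'.1
    · exact ih h'.2 x hx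

theorem W_allT {l : List Lt} (h : allT l = true) : W l ∈ Hs := W_mem (allT_mem h)

/-- the points of the representatives -/
noncomputable def start (L : List (List Lt × List Lt)) : ℕ :=
  List.rec (motive := fun _ => ℕ) 0 (fun r _ ih => Nat.lor (mv 1 r.1) ih) L

/-- the representatives and transporters are correct -/
noncomputable def chkReps (gi gj : List Lt) (L : List (List Lt × List Lt)) : Bool :=
  List.rec (motive := fun _ => Bool) true (fun r _ ih => and (and (and (allT r.1) (allT r.2))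
    (Nat.beq (mv B0 (gi ++ (r.1 ++ [.z]))) (mv B0 (r.2 ++ gj)))) ih) L

/-- the generators fix `γ⁻¹ B0` -/
noncomputable def chkGens (gi : List Lt) (L : List (List Lt)) : Bool :=
  List.rec (motive := fun _ => Bool) true (fun s _ ih => and (and (allT s)
    (Nat.beq (mv B0 gi.reverse) (mv B0 (s ++ gi.reverse)))) ih) L

/-- the check of a block -/
noncomputable def chkBlk (gi gj : List Lt) (gens : List (List Lt)) (b : Blk) : Bool :=
  and (chkReps gi gj b.reps) (seqB (sat (gens.map fun l => l.map nt) b.r (start b.reps)) fun Q =>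
    and (Nat.beq (Nat.shiftRight Q (Nat.pow 2 (15 : ℕ))) 0) (Nat.beq (pc 15 Q) b.n))

/-- `x` lies in the double coset of `g` -/
def Rel (x g : Fi23) : Prop := ∃ h ∈ Hs, ∃ k ∈ Hs, x = h * g * k

theorem rel_of {x g y : Fi23} (h : Fi23) (hh : h ∈ Hs) (v : Fi23) (hv : v ∈ Hs) (hk : (x * (v * z0))⁻¹ * (h * g) ∈ Hs)
    (hy : y = v * z0 * v⁻¹) : Rel (x * y) g := by
  refine ⟨h, hh, ((x * (v * z0))⁻¹ * (h * g))⁻¹ * v⁻¹, Hs.mul_mem (Hs.inv_mem hk) (Hs.inv_mem hv), ?_⟩
  rw [hy]
  group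

theorem start_spec {gi gj : List Lt} {L : List (List Lt × List Lt)} (hc : chkReps gi gj L = true) {p : ℕ}
    (hp : (start L).testBit p = true) : T7.testBit p = true ∧ Rel (W gi * zt p) (W gj) := by
  induction L with
  | nil =>
    have h : (0 : ℕ).testBit p = true := hp
    rw [Nat.zero_testBit] at h
    exact Bool.noConfusion h
  | cons r L ih =>
    have hc' : and (and (and (allT r.1) (allT r.2)) (Nat.beq (mv B0 (gi ++ (r.1 ++ [.z]))) (mv B0 (r.2 ++ gj))))
      (chkReps gi gj L) = true := hc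
    rw [Bool.and_eq_true, Bool.and_eq_true, Bool.and_eq_true] at hc'
    obtain ⟨⟨⟨h1, h2⟩, h3⟩, h4⟩ := hc'
    have hp' : (mv 1 r.1 ||| start L).testBit p = true := hp
    rw [Nat.testBit_or, Bool.or_eq_true] at hp'
    rcases hp' with hp' | hp'
    · rw [testBit_mv, Nat.testBit_one_eq_true_iff_self_eq_zero] at hp'
      have h5 : rho (W r.1) 0 = p := by
        rw [← hp', ← Equiv.Perm.mul_apply, ← map_mul, mul_inv_cancel, map_one]
        rfl
      have hv := W_allT h1
      refine ⟨?_, ?_⟩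
      · rw [← h5]
        exact Hs_le_T7 hv T7_tb0
      · have h6 := coset_of_mv h3
        rw [W_append, W_append, W_cons, W_nil, W_append, el_z, mul_one] at h6
        have h7 : (W r.2)⁻¹ ∈ Hs := Hs.inv_mem (W_allT h2)
        refine rel_of (W r.2) (W_allT h2) (W r.1) hv h6 ?_
        rw [zt_of h5]
    · exact ih h4 hp'

/-- the elements of `Hs ∩ Hs ^ g` -/
def Si (g : Fi23) : Subgroup Fi23 where
  carrier := {s | s ∈ Hs ∧ g * s * g⁻¹ ∈ Hs}
  mul_mem' := by
    rintro a b ⟨h1, h2⟩ ⟨h3, h4⟩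
    refine ⟨mul_mem h1 h3, ?_⟩
    have h5 := mul_mem h2 h4
    rwa [show g * a * g⁻¹ * (g * b * g⁻¹) = g * (a * b) * g⁻¹ by group] at h5
  one_mem' := ⟨one_mem _, by rw [mul_one, mul_inv_cancel]; exact one_mem _⟩
  inv_mem' := by
    rintro a ⟨h1, h2⟩
    refine ⟨inv_mem h1, ?_⟩
    have h3 := inv_mem h2
    rwa [show (g * a * g⁻¹)⁻¹ = g * a⁻¹ * g⁻¹ by group] at h3

theorem gens_spec {gi : List Lt} {L : List (List Lt)} (hc : chkGens gi L = true) : ∀ s ∈ L, W s ∈ Si (W gi) := by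
  induction L with
  | nil => intro s hs; exact absurd hs (by simp)
  | cons t L ih =>
    have hc' : and (and (allT t) (Nat.beq (mv B0 gi.reverse) (mv B0 (t ++ gi.reverse)))) (chkGens gi L) = true := hc
    rw [Bool.and_eq_true, Bool.and_eq_true] at hc'
    intro s hs
    rcases List.mem_cons.1 hs with rfl | hs
    · refine ⟨W_allT hc'.1.1, ?_⟩
      have h := coset_of_mv hc'.1.2
      rw [W_append, W_reverse, inv_inv, ← mul_assoc] at h
      exact h
    · exact ih hc'.2 s hs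

theorem rel_Si {g x : Fi23} {s : Fi23} (hs : s ∈ Si g) {p : ℕ} (hp : p < 31671) (h : Rel (g * zt (rho s p)) x) :
    Rel (g * zt p) x := by
  obtain ⟨a, ha, b, hb, h1⟩ := h
  rw [zt_conj s hp] at h1
  refine ⟨(g * s * g⁻¹)⁻¹ * a, mul_mem (inv_mem hs.2) ha, b * s, mul_mem hb hs.1, ?_⟩
  calc g * zt p = (g * s * g⁻¹)⁻¹ * (g * (s * zt p * s⁻¹)) * s := by group
    _ = (g * s * g⁻¹)⁻¹ * (a * x * b) * s := by rw [h1]
    _ = _ := by group

theorem blk_spec {gi gj : List Lt} {gens : List (List Lt)} {b : Blk} (hg : chkGens gi gens = true)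
    (hb : chkBlk gi gj gens b = true) : b.n ≤ {p : ℕ | T7.testBit p = true ∧ Rel (W gi * zt p) (W gj)}.ncard := by
  have hb' : and (chkReps gi gj b.reps) (seqB (sat (gens.map fun l => l.map nt) b.r (start b.reps)) fun Q =>
    and (Nat.beq (Nat.shiftRight Q (Nat.pow 2 (15 : ℕ))) 0) (Nat.beq (pc 15 Q) b.n)) = true := hb
  rw [seqB_eq, Bool.and_eq_true, Bool.and_eq_true] at hb'
  obtain ⟨h1, h2, h3⟩ := hb'
  rw [← ncard_testBit h2 h3]
  apply Set.ncard_le_ncard
  · intro p hp
    rw [Set.mem_ofPred_eq] at hp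
    have hws : WsOk (2 ^ 15) (gens.map fun l => l.map nt) := by
      intro w hw
      obtain ⟨l, _, rfl⟩ := List.mem_map.1 hw
      exact wok l
    obtain ⟨g, ⟨s, hs, rfl⟩, h4⟩ := sat_spec (K := (Si (W gi)).map rho) hws (by
      intro w hw
      obtain ⟨l, hl, rfl⟩ := List.mem_map.1 hw
      exact ⟨W l, gens_spec hg l hl, rho_W l⟩) _ hp
    obtain ⟨h5, h6⟩ := start_spec h1 h4
    have h7 : T7.testBit p = true := by
      have := Hs_stT7 hs.1 p
      rw [← this]
      exact h5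
    exact ⟨h7, rel_Si hs (T7_lt' h7) h6⟩
  · apply Set.Finite.subset (Set.finite_lt_nat 31671)
    rintro p ⟨h4, -⟩
    exact T7_lt' h4

end Cfsg.Agent.H293.F23B
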