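import Cfsg.Agent.H293.F23B.Data

/-!
# The sixteen double cosets of the stabiliser of a base in `Fi23`: kernel checks
-/

set_option autoImplicit false
set_option maxRecDepth 100000

namespace Cfsg.Agent.H293.F23B

open Cfsg.Agent.Lib.PermNet Cfsg.Agent.Lib.PermNetOrbit

theorem gns_0 : chkGens (gam 0) (gns 0) = true := by decide +kernel
theorem gns_1 : chkGens (gam 1) (gns 1) = true := by decide +kernel
theorem gns_2 : chkGens (gam 2) (gns 2) = true := by decide +kernel
theorem gns_3 : chkGens (gam 3) (gns 3) = true := by decide +kernel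
theorem gns_4 : chkGens (gam 4) (gns 4) = true := by decide +kernel
theorem gns_5 : chkGens (gam 5) (gns 5) = true := by decide +kernel
theorem gns_6 : chkGens (gam 6) (gns 6) = true := by decide +kernel
theorem gns_7 : chkGens (gam 7) (gns 7) = true := by decide +kernel
theorem gns_8 : chkGens (gam 8) (gns 8) = true := by decide +kernel
theorem gns_9 : chkGens (gam 9) (gns 9) = true := by decide +kernel
theorem gns_10 : chkGens (gam 10) (gns 10) = true := by decide +kernel
theorem gns_11 : chkGens (gam 11) (gns 11) = true := by decide +kernel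
theorem gns_12 : chkGens (gam 12) (gns 12) = true := by decide +kernel
theorem gns_13 : chkGens (gam 13) (gns 13) = true := by decide +kernel
theorem gns_14 : chkGens (gam 14) (gns 14) = true := by decide +kernel
theorem gns_15 : chkGens (gam 15) (gns 15) = true := by decide +kernel

theorem gns_all (i : Fin 16) : chkGens (gam i) (gns i) = true := by
  fin_cases i
  · exact gns_0
  · exact gns_1
  · exact gns_2
  · exact gns_3
  · exact gns_4
  · exact gns_5
  · exact gns_6
  · exact gns_7
  · exact gns_8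
  · exact gns_9
  · exact gns_10
  · exact gns_11
  · exact gns_12
  · exact gns_13
  · exact gns_14
  · exact gns_15

theorem b_0_0 : chkBlk (gam 0) (gam 0) (gns 0) (blk 0 0) = true := by decide +kernel
theorem b_0_1 : chkBlk (gam 0) (gam 1) (gns 0) (blk 0 1) = true := by decide +kernel
theorem b_0_2 : chkBlk (gam 0) (gam 2) (gns 0) (blk 0 2) = true := by decide +kernel
theorem b_0_3 : chkBlk (gam 0) (gam 3) (gns 0) (blk 0 3) = true := by decide +kernel
theorem b_0_4 : chkBlk (gam 0) (gam 4) (gns 0) (blk 0 4) = true := by decide +kernel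
theorem b_0_5 : chkBlk (gam 0) (gam 5) (gns 0) (blk 0 5) = true := by decide +kernel
theorem b_0_6 : chkBlk (gam 0) (gam 6) (gns 0) (blk 0 6) = true := by decide +kernel
theorem b_0_7 : chkBlk (gam 0) (gam 7) (gns 0) (blk 0 7) = true := by decide +kernel
theorem b_0_8 : chkBlk (gam 0) (gam 8) (gns 0) (blk 0 8) = true := by decide +kernel
theorem b_0_9 : chkBlk (gam 0) (gam 9) (gns 0) (blk 0 9) = true := by decide +kernel
theorem b_0_10 : chkBlk (gam 0) (gam 10) (gns 0) (blk 0 10) = true := by decide +kernel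
theorem b_0_11 : chkBlk (gam 0) (gam 11) (gns 0) (blk 0 11) = true := by decide +kernel
theorem b_0_12 : chkBlk (gam 0) (gam 12) (gns 0) (blk 0 12) = true := by decide +kernel
theorem b_0_13 : chkBlk (gam 0) (gam 13) (gns 0) (blk 0 13) = true := by decide +kernel
theorem b_0_14 : chkBlk (gam 0) (gam 14) (gns 0) (blk 0 14) = true := by decide +kernel
theorem b_0_15 : chkBlk (gam 0) (gam 15) (gns 0) (blk 0 15) = true := by decide +kernel

theorem b_0 (j : Fin 16) : chkBlk (gam 0) (gam j) (gns 0) (blk 0 j) = true := by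
  fin_cases j
  · exact b_0_0
  · exact b_0_1
  · exact b_0_2
  · exact b_0_3
  · exact b_0_4
  · exact b_0_5
  · exact b_0_6
  · exact b_0_7
  · exact b_0_8
  · exact b_0_9
  · exact b_0_10
  · exact b_0_11
  · exact b_0_12
  · exact b_0_13
  · exact b_0_14
  · exact b_0_15

theorem b_1_0 : chkBlk (gam 1) (gam 0) (gns 1) (blk 1 0) = true := by decide +kernel
theorem b_1_1 : chkBlk (gam 1) (gam 1) (gns 1) (blk 1 1) = true := by decide +kernel
theorem b_1_2 : chkBlk (gam 1) (gam 2) (gns 1) (blk 1 2) = true := by decide +kernel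
theorem b_1_3 : chkBlk (gam 1) (gam 3) (gns 1) (blk 1 3) = true := by decide +kernel
theorem b_1_4 : chkBlk (gam 1) (gam 4) (gns 1) (blk 1 4) = true := by decide +kernel
theorem b_1_5 : chkBlk (gam 1) (gam 5) (gns 1) (blk 1 5) = true := by decide +kernel
theorem b_1_6 : chkBlk (gam 1) (gam 6) (gns 1) (blk 1 6) = true := by decide +kernel
theorem b_1_7 : chkBlk (gam 1) (gam 7) (gns 1) (blk 1 7) = true := by decide +kernel
theorem b_1_8 : chkBlk (gam 1) (gam 8) (gns 1) (blk 1 8) = true := by decide +kernel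
theorem b_1_9 : chkBlk (gam 1) (gam 9) (gns 1) (blk 1 9) = true := by decide +kernel
theorem b_1_10 : chkBlk (gam 1) (gam 10) (gns 1) (blk 1 10) = true := by decide +kernel
theorem b_1_11 : chkBlk (gam 1) (gam 11) (gns 1) (blk 1 11) = true := by decide +kernel
theorem b_1_12 : chkBlk (gam 1) (gam 12) (gns 1) (blk 1 12) = true := by decide +kernel
theorem b_1_13 : chkBlk (gam 1) (gam 13) (gns 1) (blk 1 13) = true := by decide +kernel
theorem b_1_14 : chkBlk (gam 1) (gam 14) (gns 1) (blk 1 14) = true := by decide +kernel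
theorem b_1_15 : chkBlk (gam 1) (gam 15) (gns 1) (blk 1 15) = true := by decide +kernel

theorem b_1 (j : Fin 16) : chkBlk (gam 1) (gam j) (gns 1) (blk 1 j) = true := by
  fin_cases j
  · exact b_1_0
  · exact b_1_1
  · exact b_1_2
  · exact b_1_3
  · exact b_1_4
  · exact b_1_5
  · exact b_1_6
  · exact b_1_7
  · exact b_1_8
  · exact b_1_9
  · exact b_1_10
  · exact b_1_11
  · exact b_1_12
  · exact b_1_13
  · exact b_1_14
  · exact b_1_15

theorem b_2_0 : chkBlk (gam 2) (gam 0) (gns 2) (blk 2 0) = true := by decide +kernel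
theorem b_2_1 : chkBlk (gam 2) (gam 1) (gns 2) (blk 2 1) = true := by decide +kernel
theorem b_2_2 : chkBlk (gam 2) (gam 2) (gns 2) (blk 2 2) = true := by decide +kernel
theorem b_2_3 : chkBlk (gam 2) (gam 3) (gns 2) (blk 2 3) = true := by decide +kernel
theorem b_2_4 : chkBlk (gam 2) (gam 4) (gns 2) (blk 2 4) = true := by decide +kernel
theorem b_2_5 : chkBlk (gam 2) (gam 5) (gns 2) (blk 2 5) = true := by decide +kernel
theorem b_2_6 : chkBlk (gam 2) (gam 6) (gns 2) (blk 2 6) = true := by decide +kernel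
theorem b_2_7 : chkBlk (gam 2) (gam 7) (gns 2) (blk 2 7) = true := by decide +kernel
theorem b_2_8 : chkBlk (gam 2) (gam 8) (gns 2) (blk 2 8) = true := by decide +kernel
theorem b_2_9 : chkBlk (gam 2) (gam 9) (gns 2) (blk 2 9) = true := by decide +kernel
theorem b_2_10 : chkBlk (gam 2) (gam 10) (gns 2) (blk 2 10) = true := by decide +kernel
theorem b_2_11 : chkBlk (gam 2) (gam 11) (gns 2) (blk 2 11) = true := by decide +kernel
theorem b_2_12 : chkBlk (gam 2) (gam 12) (gns 2) (blk 2 12) = true := by decide +kernel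
theorem b_2_13 : chkBlk (gam 2) (gam 13) (gns 2) (blk 2 13) = true := by decide +kernel
theorem b_2_14 : chkBlk (gam 2) (gam 14) (gns 2) (blk 2 14) = true := by decide +kernel
theorem b_2_15 : chkBlk (gam 2) (gam 15) (gns 2) (blk 2 15) = true := by decide +kernel

theorem b_2 (j : Fin 16) : chkBlk (gam 2) (gam j) (gns 2) (blk 2 j) = true := by
  fin_cases j
  · exact b_2_0
  · exact b_2_1
  · exact b_2_2
  · exact b_2_3
  · exact b_2_4
  · exact b_2_5
  · exact b_2_6
  · exact b_2_7
  · exact b_2_8
  · exact b_2_9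
  · exact b_2_10
  · exact b_2_11
  · exact b_2_12
  · exact b_2_13
  · exact b_2_14
  · exact b_2_15

theorem b_3_0 : chkBlk (gam 3) (gam 0) (gns 3) (blk 3 0) = true := by decide +kernel
theorem b_3_1 : chkBlk (gam 3) (gam 1) (gns 3) (blk 3 1) = true := by decide +kernel
theorem b_3_2 : chkBlk (gam 3) (gam 2) (gns 3) (blk 3 2) = true := by decide +kernel
theorem b_3_3 : chkBlk (gam 3) (gam 3) (gns 3) (blk 3 3) = true := by decide +kernel
theorem b_3_4 : chkBlk (gam 3) (gam 4) (gns 3) (blk 3 4) = true := by decide +kernel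
theorem b_3_5 : chkBlk (gam 3) (gam 5) (gns 3) (blk 3 5) = true := by decide +kernel
theorem b_3_6 : chkBlk (gam 3) (gam 6) (gns 3) (blk 3 6) = true := by decide +kernel
theorem b_3_7 : chkBlk (gam 3) (gam 7) (gns 3) (blk 3 7) = true := by decide +kernel
theorem b_3_8 : chkBlk (gam 3) (gam 8) (gns 3) (blk 3 8) = true := by decide +kernel
theorem b_3_9 : chkBlk (gam 3) (gam 9) (gns 3) (blk 3 9) = true := by decide +kernel
theorem b_3_10 : chkBlk (gam 3) (gam 10) (gns 3) (blk 3 10) = true := by decide +kernel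
theorem b_3_11 : chkBlk (gam 3) (gam 11) (gns 3) (blk 3 11) = true := by decide +kernel
theorem b_3_12 : chkBlk (gam 3) (gam 12) (gns 3) (blk 3 12) = true := by decide +kernel
theorem b_3_13 : chkBlk (gam 3) (gam 13) (gns 3) (blk 3 13) = true := by decide +kernel
theorem b_3_14 : chkBlk (gam 3) (gam 14) (gns 3) (blk 3 14) = true := by decide +kernel
theorem b_3_15 : chkBlk (gam 3) (gam 15) (gns 3) (blk 3 15) = true := by decide +kernel

theorem b_3 (j : Fin 16) : chkBlk (gam 3) (gam j) (gns 3) (blk 3 j) = true := by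
  fin_cases j
  · exact b_3_0
  · exact b_3_1
  · exact b_3_2
  · exact b_3_3
  · exact b_3_4
  · exact b_3_5
  · exact b_3_6
  · exact b_3_7
  · exact b_3_8
  · exact b_3_9
  · exact b_3_10
  · exact b_3_11
  · exact b_3_12
  · exact b_3_13
  · exact b_3_14
  · exact b_3_15

theorem b_4_0 : chkBlk (gam 4) (gam 0) (gns 4) (blk 4 0) = true := by decide +kernel
theorem b_4_1 : chkBlk (gam 4) (gam 1) (gns 4) (blk 4 1) = true := by decide +kernel
theorem b_4_2 : chkBlk (gam 4) (gam 2) (gns 4) (blk 4 2) = true := by decide +kernel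
theorem b_4_3 : chkBlk (gam 4) (gam 3) (gns 4) (blk 4 3) = true := by decide +kernel
theorem b_4_4 : chkBlk (gam 4) (gam 4) (gns 4) (blk 4 4) = true := by decide +kernel
theorem b_4_5 : chkBlk (gam 4) (gam 5) (gns 4) (blk 4 5) = true := by decide +kernel
theorem b_4_6 : chkBlk (gam 4) (gam 6) (gns 4) (blk 4 6) = true := by decide +kernel
theorem b_4_7 : chkBlk (gam 4) (gam 7) (gns 4) (blk 4 7) = true := by decide +kernel
theorem b_4_8 : chkBlk (gam 4) (gam 8) (gns 4) (blk 4 8) = true := by decide +kernel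
theorem b_4_9 : chkBlk (gam 4) (gam 9) (gns 4) (blk 4 9) = true := by decide +kernel
theorem b_4_10 : chkBlk (gam 4) (gam 10) (gns 4) (blk 4 10) = true := by decide +kernel
theorem b_4_11 : chkBlk (gam 4) (gam 11) (gns 4) (blk 4 11) = true := by decide +kernel
theorem b_4_12 : chkBlk (gam 4) (gam 12) (gns 4) (blk 4 12) = true := by decide +kernel
theorem b_4_13 : chkBlk (gam 4) (gam 13) (gns 4) (blk 4 13) = true := by decide +kernel
theorem b_4_14 : chkBlk (gam 4) (gam 14) (gns 4) (blk 4 14) = true := by decide +kernel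
theorem b_4_15 : chkBlk (gam 4) (gam 15) (gns 4) (blk 4 15) = true := by decide +kernel

theorem b_4 (j : Fin 16) : chkBlk (gam 4) (gam j) (gns 4) (blk 4 j) = true := by
  fin_cases j
  · exact b_4_0
  · exact b_4_1
  · exact b_4_2
  · exact b_4_3
  · exact b_4_4
  · exact b_4_5
  · exact b_4_6
  · exact b_4_7
  · exact b_4_8
  · exact b_4_9
  · exact b_4_10
  · exact b_4_11
  · exact b_4_12
  · exact b_4_13
  · exact b_4_14
  · exact b_4_15

theorem b_5_0 : chkBlk (gam 5) (gam 0) (gns 5) (blk 5 0) = true := by decide +kernel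
theorem b_5_1 : chkBlk (gam 5) (gam 1) (gns 5) (blk 5 1) = true := by decide +kernel
theorem b_5_2 : chkBlk (gam 5) (gam 2) (gns 5) (blk 5 2) = true := by decide +kernel
theorem b_5_3 : chkBlk (gam 5) (gam 3) (gns 5) (blk 5 3) = true := by decide +kernel
theorem b_5_4 : chkBlk (gam 5) (gam 4) (gns 5) (blk 5 4) = true := by decide +kernel
theorem b_5_5 : chkBlk (gam 5) (gam 5) (gns 5) (blk 5 5) = true := by decide +kernel
theorem b_5_6 : chkBlk (gam 5) (gam 6) (gns 5) (blk 5 6) = true := by decide +kernel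
theorem b_5_7 : chkBlk (gam 5) (gam 7) (gns 5) (blk 5 7) = true := by decide +kernel
theorem b_5_8 : chkBlk (gam 5) (gam 8) (gns 5) (blk 5 8) = true := by decide +kernel
theorem b_5_9 : chkBlk (gam 5) (gam 9) (gns 5) (blk 5 9) = true := by decide +kernel
theorem b_5_10 : chkBlk (gam 5) (gam 10) (gns 5) (blk 5 10) = true := by decide +kernel
theorem b_5_11 : chkBlk (gam 5) (gam 11) (gns 5) (blk 5 11) = true := by decide +kernel
theorem b_5_12 : chkBlk (gam 5) (gam 12) (gns 5) (blk 5 12) = true := by decide +kernel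
theorem b_5_13 : chkBlk (gam 5) (gam 13) (gns 5) (blk 5 13) = true := by decide +kernel
theorem b_5_14 : chkBlk (gam 5) (gam 14) (gns 5) (blk 5 14) = true := by decide +kernel
theorem b_5_15 : chkBlk (gam 5) (gam 15) (gns 5) (blk 5 15) = true := by decide +kernel

theorem b_5 (j : Fin 16) : chkBlk (gam 5) (gam j) (gns 5) (blk 5 j) = true := by
  fin_cases j
  · exact b_5_0
  · exact b_5_1
  · exact b_5_2
  · exact b_5_3
  · exact b_5_4
  · exact b_5_5
  · exact b_5_6
  · exact b_5_7
  · exact b_5_8
  · exact b_5_9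
  · exact b_5_10
  · exact b_5_11
  · exact b_5_12
  · exact b_5_13
  · exact b_5_14
  · exact b_5_15

theorem b_6_0 : chkBlk (gam 6) (gam 0) (gns 6) (blk 6 0) = true := by decide +kernel
theorem b_6_1 : chkBlk (gam 6) (gam 1) (gns 6) (blk 6 1) = true := by decide +kernel
theorem b_6_2 : chkBlk (gam 6) (gam 2) (gns 6) (blk 6 2) = true := by decide +kernel
theorem b_6_3 : chkBlk (gam 6) (gam 3) (gns 6) (blk 6 3) = true := by decide +kernel
theorem b_6_4 : chkBlk (gam 6) (gam 4) (gns 6) (blk 6 4) = true := by decide +kernel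
theorem b_6_5 : chkBlk (gam 6) (gam 5) (gns 6) (blk 6 5) = true := by decide +kernel
theorem b_6_6 : chkBlk (gam 6) (gam 6) (gns 6) (blk 6 6) = true := by decide +kernel
theorem b_6_7 : chkBlk (gam 6) (gam 7) (gns 6) (blk 6 7) = true := by decide +kernel
theorem b_6_8 : chkBlk (gam 6) (gam 8) (gns 6) (blk 6 8) = true := by decide +kernel
theorem b_6_9 : chkBlk (gam 6) (gam 9) (gns 6) (blk 6 9) = true := by decide +kernel
theorem b_6_10 : chkBlk (gam 6) (gam 10) (gns 6) (blk 6 10) = true := by decide +kernel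
theorem b_6_11 : chkBlk (gam 6) (gam 11) (gns 6) (blk 6 11) = true := by decide +kernel
theorem b_6_12 : chkBlk (gam 6) (gam 12) (gns 6) (blk 6 12) = true := by decide +kernel
theorem b_6_13 : chkBlk (gam 6) (gam 13) (gns 6) (blk 6 13) = true := by decide +kernel
theorem b_6_14 : chkBlk (gam 6) (gam 14) (gns 6) (blk 6 14) = true := by decide +kernel
theorem b_6_15 : chkBlk (gam 6) (gam 15) (gns 6) (blk 6 15) = true := by decide +kernel

theorem b_6 (j : Fin 16) : chkBlk (gam 6) (gam j) (gns 6) (blk 6 j) = true := by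
  fin_cases j
  · exact b_6_0
  · exact b_6_1
  · exact b_6_2
  · exact b_6_3
  · exact b_6_4
  · exact b_6_5
  · exact b_6_6
  · exact b_6_7
  · exact b_6_8
  · exact b_6_9
  · exact b_6_10
  · exact b_6_11
  · exact b_6_12
  · exact b_6_13
  · exact b_6_14
  · exact b_6_15

theorem b_7_0 : chkBlk (gam 7) (gam 0) (gns 7) (blk 7 0) = true := by decide +kernel
theorem b_7_1 : chkBlk (gam 7) (gam 1) (gns 7) (blk 7 1) = true := by decide +kernel
theorem b_7_2 : chkBlk (gam 7) (gam 2) (gns 7) (blk 7 2) = true := by decide +kernel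
theorem b_7_3 : chkBlk (gam 7) (gam 3) (gns 7) (blk 7 3) = true := by decide +kernel
theorem b_7_4 : chkBlk (gam 7) (gam 4) (gns 7) (blk 7 4) = true := by decide +kernel
theorem b_7_5 : chkBlk (gam 7) (gam 5) (gns 7) (blk 7 5) = true := by decide +kernel
theorem b_7_6 : chkBlk (gam 7) (gam 6) (gns 7) (blk 7 6) = true := by decide +kernel
theorem b_7_7 : chkBlk (gam 7) (gam 7) (gns 7) (blk 7 7) = true := by decide +kernel
theorem b_7_8 : chkBlk (gam 7) (gam 8) (gns 7) (blk 7 8) = true := by decide +kernel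
theorem b_7_9 : chkBlk (gam 7) (gam 9) (gns 7) (blk 7 9) = true := by decide +kernel
theorem b_7_10 : chkBlk (gam 7) (gam 10) (gns 7) (blk 7 10) = true := by decide +kernel
theorem b_7_11 : chkBlk (gam 7) (gam 11) (gns 7) (blk 7 11) = true := by decide +kernel
theorem b_7_12 : chkBlk (gam 7) (gam 12) (gns 7) (blk 7 12) = true := by decide +kernel
theorem b_7_13 : chkBlk (gam 7) (gam 13) (gns 7) (blk 7 13) = true := by decide +kernel
theorem b_7_14 : chkBlk (gam 7) (gam 14) (gns 7) (blk 7 14) = true := by decide +kernel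
theorem b_7_15 : chkBlk (gam 7) (gam 15) (gns 7) (blk 7 15) = true := by decide +kernel

theorem b_7 (j : Fin 16) : chkBlk (gam 7) (gam j) (gns 7) (blk 7 j) = true := by
  fin_cases j
  · exact b_7_0
  · exact b_7_1
  · exact b_7_2
  · exact b_7_3
  · exact b_7_4
  · exact b_7_5
  · exact b_7_6
  · exact b_7_7
  · exact b_7_8
  · exact b_7_9
  · exact b_7_10
  · exact b_7_11
  · exact b_7_12
  · exact b_7_13
  · exact b_7_14
  · exact b_7_15

theorem b_8_0 : chkBlk (gam 8) (gam 0) (gns 8) (blk 8 0) = true := by decide +kernel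
theorem b_8_1 : chkBlk (gam 8) (gam 1) (gns 8) (blk 8 1) = true := by decide +kernel
theorem b_8_2 : chkBlk (gam 8) (gam 2) (gns 8) (blk 8 2) = true := by decide +kernel
theorem b_8_3 : chkBlk (gam 8) (gam 3) (gns 8) (blk 8 3) = true := by decide +kernel
theorem b_8_4 : chkBlk (gam 8) (gam 4) (gns 8) (blk 8 4) = true := by decide +kernel
theorem b_8_5 : chkBlk (gam 8) (gam 5) (gns 8) (blk 8 5) = true := by decide +kernel
theorem b_8_6 : chkBlk (gam 8) (gam 6) (gns 8) (blk 8 6) = true := by decide +kernel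
theorem b_8_7 : chkBlk (gam 8) (gam 7) (gns 8) (blk 8 7) = true := by decide +kernel
theorem b_8_8 : chkBlk (gam 8) (gam 8) (gns 8) (blk 8 8) = true := by decide +kernel
theorem b_8_9 : chkBlk (gam 8) (gam 9) (gns 8) (blk 8 9) = true := by decide +kernel
theorem b_8_10 : chkBlk (gam 8) (gam 10) (gns 8) (blk 8 10) = true := by decide +kernel
theorem b_8_11 : chkBlk (gam 8) (gam 11) (gns 8) (blk 8 11) = true := by decide +kernel
theorem b_8_12 : chkBlk (gam 8) (gam 12) (gns 8) (blk 8 12) = true := by decide +kernel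
theorem b_8_13 : chkBlk (gam 8) (gam 13) (gns 8) (blk 8 13) = true := by decide +kernel
theorem b_8_14 : chkBlk (gam 8) (gam 14) (gns 8) (blk 8 14) = true := by decide +kernel
theorem b_8_15 : chkBlk (gam 8) (gam 15) (gns 8) (blk 8 15) = true := by decide +kernel

theorem b_8 (j : Fin 16) : chkBlk (gam 8) (gam j) (gns 8) (blk 8 j) = true := by
  fin_cases j
  · exact b_8_0
  · exact b_8_1
  · exact b_8_2
  · exact b_8_3
  · exact b_8_4
  · exact b_8_5
  · exact b_8_6
  · exact b_8_7
  · exact b_8_8
  · exact b_8_9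
  · exact b_8_10
  · exact b_8_11
  · exact b_8_12
  · exact b_8_13
  · exact b_8_14
  · exact b_8_15

theorem b_9_0 : chkBlk (gam 9) (gam 0) (gns 9) (blk 9 0) = true := by decide +kernel
theorem b_9_1 : chkBlk (gam 9) (gam 1) (gns 9) (blk 9 1) = true := by decide +kernel
theorem b_9_2 : chkBlk (gam 9) (gam 2) (gns 9) (blk 9 2) = true := by decide +kernel
theorem b_9_3 : chkBlk (gam 9) (gam 3) (gns 9) (blk 9 3) = true := by decide +kernel
theorem b_9_4 : chkBlk (gam 9) (gam 4) (gns 9) (blk 9 4) = true := by decide +kernel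
theorem b_9_5 : chkBlk (gam 9) (gam 5) (gns 9) (blk 9 5) = true := by decide +kernel
theorem b_9_6 : chkBlk (gam 9) (gam 6) (gns 9) (blk 9 6) = true := by decide +kernel
theorem b_9_7 : chkBlk (gam 9) (gam 7) (gns 9) (blk 9 7) = true := by decide +kernel
theorem b_9_8 : chkBlk (gam 9) (gam 8) (gns 9) (blk 9 8) = true := by decide +kernel
theorem b_9_9 : chkBlk (gam 9) (gam 9) (gns 9) (blk 9 9) = true := by decide +kernel
theorem b_9_10 : chkBlk (gam 9) (gam 10) (gns 9) (blk 9 10) = true := by decide +kernel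
theorem b_9_11 : chkBlk (gam 9) (gam 11) (gns 9) (blk 9 11) = true := by decide +kernel
theorem b_9_12 : chkBlk (gam 9) (gam 12) (gns 9) (blk 9 12) = true := by decide +kernel
theorem b_9_13 : chkBlk (gam 9) (gam 13) (gns 9) (blk 9 13) = true := by decide +kernel
theorem b_9_14 : chkBlk (gam 9) (gam 14) (gns 9) (blk 9 14) = true := by decide +kernel
theorem b_9_15 : chkBlk (gam 9) (gam 15) (gns 9) (blk 9 15) = true := by decide +kernel

theorem b_9 (j : Fin 16) : chkBlk (gam 9) (gam j) (gns 9) (blk 9 j) = true := by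
  fin_cases j
  · exact b_9_0
  · exact b_9_1
  · exact b_9_2
  · exact b_9_3
  · exact b_9_4
  · exact b_9_5
  · exact b_9_6
  · exact b_9_7
  · exact b_9_8
  · exact b_9_9
  · exact b_9_10
  · exact b_9_11
  · exact b_9_12
  · exact b_9_13
  · exact b_9_14
  · exact b_9_15

theorem b_10_0 : chkBlk (gam 10) (gam 0) (gns 10) (blk 10 0) = true := by decide +kernel
theorem b_10_1 : chkBlk (gam 10) (gam 1) (gns 10) (blk 10 1) = true := by decide +kernel
theorem b_10_2 : chkBlk (gam 10) (gam 2) (gns 10) (blk 10 2) = true := by decide +kernel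
theorem b_10_3 : chkBlk (gam 10) (gam 3) (gns 10) (blk 10 3) = true := by decide +kernel
theorem b_10_4 : chkBlk (gam 10) (gam 4) (gns 10) (blk 10 4) = true := by decide +kernel
theorem b_10_5 : chkBlk (gam 10) (gam 5) (gns 10) (blk 10 5) = true := by decide +kernel
theorem b_10_6 : chkBlk (gam 10) (gam 6) (gns 10) (blk 10 6) = true := by decide +kernel
theorem b_10_7 : chkBlk (gam 10) (gam 7) (gns 10) (blk 10 7) = true := by decide +kernel
theorem b_10_8 : chkBlk (gam 10) (gam 8) (gns 10) (blk 10 8) = true := by decide +kernel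
theorem b_10_9 : chkBlk (gam 10) (gam 9) (gns 10) (blk 10 9) = true := by decide +kernel
theorem b_10_10 : chkBlk (gam 10) (gam 10) (gns 10) (blk 10 10) = true := by decide +kernel
theorem b_10_11 : chkBlk (gam 10) (gam 11) (gns 10) (blk 10 11) = true := by decide +kernel
theorem b_10_12 : chkBlk (gam 10) (gam 12) (gns 10) (blk 10 12) = true := by decide +kernel
theorem b_10_13 : chkBlk (gam 10) (gam 13) (gns 10) (blk 10 13) = true := by decide +kernel
theorem b_10_14 : chkBlk (gam 10) (gam 14) (gns 10) (blk 10 14) = true := by decide +kernel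
theorem b_10_15 : chkBlk (gam 10) (gam 15) (gns 10) (blk 10 15) = true := by decide +kernel

theorem b_10 (j : Fin 16) : chkBlk (gam 10) (gam j) (gns 10) (blk 10 j) = true := by
  fin_cases j
  · exact b_10_0
  · exact b_10_1
  · exact b_10_2
  · exact b_10_3
  · exact b_10_4
  · exact b_10_5
  · exact b_10_6
  · exact b_10_7
  · exact b_10_8
  · exact b_10_9
  · exact b_10_10
  · exact b_10_11
  · exact b_10_12
  · exact b_10_13
  · exact b_10_14
  · exact b_10_15

theorem b_11_0 : chkBlk (gam 11) (gam 0) (gns 11) (blk 11 0) = true := by decide +kernel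
theorem b_11_1 : chkBlk (gam 11) (gam 1) (gns 11) (blk 11 1) = true := by decide +kernel
theorem b_11_2 : chkBlk (gam 11) (gam 2) (gns 11) (blk 11 2) = true := by decide +kernel
theorem b_11_3 : chkBlk (gam 11) (gam 3) (gns 11) (blk 11 3) = true := by decide +kernel
theorem b_11_4 : chkBlk (gam 11) (gam 4) (gns 11) (blk 11 4) = true := by decide +kernel
theorem b_11_5 : chkBlk (gam 11) (gam 5) (gns 11) (blk 11 5) = true := by decide +kernel
theorem b_11_6 : chkBlk (gam 11) (gam 6) (gns 11) (blk 11 6) = true := by decide +kernel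
theorem b_11_7 : chkBlk (gam 11) (gam 7) (gns 11) (blk 11 7) = true := by decide +kernel
theorem b_11_8 : chkBlk (gam 11) (gam 8) (gns 11) (blk 11 8) = true := by decide +kernel
theorem b_11_9 : chkBlk (gam 11) (gam 9) (gns 11) (blk 11 9) = true := by decide +kernel
theorem b_11_10 : chkBlk (gam 11) (gam 10) (gns 11) (blk 11 10) = true := by decide +kernel
theorem b_11_11 : chkBlk (gam 11) (gam 11) (gns 11) (blk 11 11) = true := by decide +kernel
theorem b_11_12 : chkBlk (gam 11) (gam 12) (gns 11) (blk 11 12) = true := by decide +kernel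
theorem b_11_13 : chkBlk (gam 11) (gam 13) (gns 11) (blk 11 13) = true := by decide +kernel
theorem b_11_14 : chkBlk (gam 11) (gam 14) (gns 11) (blk 11 14) = true := by decide +kernel
theorem b_11_15 : chkBlk (gam 11) (gam 15) (gns 11) (blk 11 15) = true := by decide +kernel

theorem b_11 (j : Fin 16) : chkBlk (gam 11) (gam j) (gns 11) (blk 11 j) = true := by
  fin_cases j
  · exact b_11_0
  · exact b_11_1
  · exact b_11_2
  · exact b_11_3
  · exact b_11_4
  · exact b_11_5
  · exact b_11_6
  · exact b_11_7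
  · exact b_11_8
  · exact b_11_9
  · exact b_11_10
  · exact b_11_11
  · exact b_11_12
  · exact b_11_13
  · exact b_11_14
  · exact b_11_15

theorem b_12_0 : chkBlk (gam 12) (gam 0) (gns 12) (blk 12 0) = true := by decide +kernel
theorem b_12_1 : chkBlk (gam 12) (gam 1) (gns 12) (blk 12 1) = true := by decide +kernel
theorem b_12_2 : chkBlk (gam 12) (gam 2) (gns 12) (blk 12 2) = true := by decide +kernel
theorem b_12_3 : chkBlk (gam 12) (gam 3) (gns 12) (blk 12 3) = true := by decide +kernel
theorem b_12_4 : chkBlk (gam 12) (gam 4) (gns 12) (blk 12 4) = true := by decide +kernel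
theorem b_12_5 : chkBlk (gam 12) (gam 5) (gns 12) (blk 12 5) = true := by decide +kernel
theorem b_12_6 : chkBlk (gam 12) (gam 6) (gns 12) (blk 12 6) = true := by decide +kernel
theorem b_12_7 : chkBlk (gam 12) (gam 7) (gns 12) (blk 12 7) = true := by decide +kernel
theorem b_12_8 : chkBlk (gam 12) (gam 8) (gns 12) (blk 12 8) = true := by decide +kernel
theorem b_12_9 : chkBlk (gam 12) (gam 9) (gns 12) (blk 12 9) = true := by decide +kernel
theorem b_12_10 : chkBlk (gam 12) (gam 10) (gns 12) (blk 12 10) = true := by decide +kernel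
theorem b_12_11 : chkBlk (gam 12) (gam 11) (gns 12) (blk 12 11) = true := by decide +kernel
theorem b_12_12 : chkBlk (gam 12) (gam 12) (gns 12) (blk 12 12) = true := by decide +kernel
theorem b_12_13 : chkBlk (gam 12) (gam 13) (gns 12) (blk 12 13) = true := by decide +kernel
theorem b_12_14 : chkBlk (gam 12) (gam 14) (gns 12) (blk 12 14) = true := by decide +kernel
theorem b_12_15 : chkBlk (gam 12) (gam 15) (gns 12) (blk 12 15) = true := by decide +kernel

theorem b_12 (j : Fin 16) : chkBlk (gam 12) (gam j) (gns 12) (blk 12 j) = true := by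
  fin_cases j
  · exact b_12_0
  · exact b_12_1
  · exact b_12_2
  · exact b_12_3
  · exact b_12_4
  · exact b_12_5
  · exact b_12_6
  · exact b_12_7
  · exact b_12_8
  · exact b_12_9
  · exact b_12_10
  · exact b_12_11
  · exact b_12_12
  · exact b_12_13
  · exact b_12_14
  · exact b_12_15

theorem b_13_0 : chkBlk (gam 13) (gam 0) (gns 13) (blk 13 0) = true := by decide +kernel
theorem b_13_1 : chkBlk (gam 13) (gam 1) (gns 13) (blk 13 1) = true := by decide +kernel
theorem b_13_2 : chkBlk (gam 13) (gam 2) (gns 13) (blk 13 2) = true := by decide +kernel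
theorem b_13_3 : chkBlk (gam 13) (gam 3) (gns 13) (blk 13 3) = true := by decide +kernel
theorem b_13_4 : chkBlk (gam 13) (gam 4) (gns 13) (blk 13 4) = true := by decide +kernel
theorem b_13_5 : chkBlk (gam 13) (gam 5) (gns 13) (blk 13 5) = true := by decide +kernel
theorem b_13_6 : chkBlk (gam 13) (gam 6) (gns 13) (blk 13 6) = true := by decide +kernel
theorem b_13_7 : chkBlk (gam 13) (gam 7) (gns 13) (blk 13 7) = true := by decide +kernel
theorem b_13_8 : chkBlk (gam 13) (gam 8) (gns 13) (blk 13 8) = true := by decide +kernel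
theorem b_13_9 : chkBlk (gam 13) (gam 9) (gns 13) (blk 13 9) = true := by decide +kernel
theorem b_13_10 : chkBlk (gam 13) (gam 10) (gns 13) (blk 13 10) = true := by decide +kernel
theorem b_13_11 : chkBlk (gam 13) (gam 11) (gns 13) (blk 13 11) = true := by decide +kernel
theorem b_13_12 : chkBlk (gam 13) (gam 12) (gns 13) (blk 13 12) = true := by decide +kernel
theorem b_13_13 : chkBlk (gam 13) (gam 13) (gns 13) (blk 13 13) = true := by decide +kernel
theorem b_13_14 : chkBlk (gam 13) (gam 14) (gns 13) (blk 13 14) = true := by decide +kernel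
theorem b_13_15 : chkBlk (gam 13) (gam 15) (gns 13) (blk 13 15) = true := by decide +kernel

theorem b_13 (j : Fin 16) : chkBlk (gam 13) (gam j) (gns 13) (blk 13 j) = true := by
  fin_cases j
  · exact b_13_0
  · exact b_13_1
  · exact b_13_2
  · exact b_13_3
  · exact b_13_4
  · exact b_13_5
  · exact b_13_6
  · exact b_13_7
  · exact b_13_8
  · exact b_13_9
  · exact b_13_10
  · exact b_13_11
  · exact b_13_12
  · exact b_13_13
  · exact b_13_14
  · exact b_13_15

theorem b_14_0 : chkBlk (gam 14) (gam 0) (gns 14) (blk 14 0) = true := by decide +kernel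
theorem b_14_1 : chkBlk (gam 14) (gam 1) (gns 14) (blk 14 1) = true := by decide +kernel
theorem b_14_2 : chkBlk (gam 14) (gam 2) (gns 14) (blk 14 2) = true := by decide +kernel
theorem b_14_3 : chkBlk (gam 14) (gam 3) (gns 14) (blk 14 3) = true := by decide +kernel
theorem b_14_4 : chkBlk (gam 14) (gam 4) (gns 14) (blk 14 4) = true := by decide +kernel
theorem b_14_5 : chkBlk (gam 14) (gam 5) (gns 14) (blk 14 5) = true := by decide +kernel
theorem b_14_6 : chkBlk (gam 14) (gam 6) (gns 14) (blk 14 6) = true := by decide +kernel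
theorem b_14_7 : chkBlk (gam 14) (gam 7) (gns 14) (blk 14 7) = true := by decide +kernel
theorem b_14_8 : chkBlk (gam 14) (gam 8) (gns 14) (blk 14 8) = true := by decide +kernel
theorem b_14_9 : chkBlk (gam 14) (gam 9) (gns 14) (blk 14 9) = true := by decide +kernel
theorem b_14_10 : chkBlk (gam 14) (gam 10) (gns 14) (blk 14 10) = true := by decide +kernel
theorem b_14_11 : chkBlk (gam 14) (gam 11) (gns 14) (blk 14 11) = true := by decide +kernel
theorem b_14_12 : chkBlk (gam 14) (gam 12) (gns 14) (blk 14 12) = true := by decide +kernel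
theorem b_14_13 : chkBlk (gam 14) (gam 13) (gns 14) (blk 14 13) = true := by decide +kernel
theorem b_14_14 : chkBlk (gam 14) (gam 14) (gns 14) (blk 14 14) = true := by decide +kernel
theorem b_14_15 : chkBlk (gam 14) (gam 15) (gns 14) (blk 14 15) = true := by decide +kernel

theorem b_14 (j : Fin 16) : chkBlk (gam 14) (gam j) (gns 14) (blk 14 j) = true := by
  fin_cases j
  · exact b_14_0
  · exact b_14_1
  · exact b_14_2
  · exact b_14_3
  · exact b_14_4
  · exact b_14_5
  · exact b_14_6
  · exact b_14_7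
  · exact b_14_8
  · exact b_14_9
  · exact b_14_10
  · exact b_14_11
  · exact b_14_12
  · exact b_14_13
  · exact b_14_14
  · exact b_14_15

theorem b_15_0 : chkBlk (gam 15) (gam 0) (gns 15) (blk 15 0) = true := by decide +kernel
theorem b_15_1 : chkBlk (gam 15) (gam 1) (gns 15) (blk 15 1) = true := by decide +kernel
theorem b_15_2 : chkBlk (gam 15) (gam 2) (gns 15) (blk 15 2) = true := by decide +kernel
theorem b_15_3 : chkBlk (gam 15) (gam 3) (gns 15) (blk 15 3) = true := by decide +kernel
theorem b_15_4 : chkBlk (gam 15) (gam 4) (gns 15) (blk 15 4) = true := by decide +kernel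
theorem b_15_5 : chkBlk (gam 15) (gam 5) (gns 15) (blk 15 5) = true := by decide +kernel
theorem b_15_6 : chkBlk (gam 15) (gam 6) (gns 15) (blk 15 6) = true := by decide +kernel
theorem b_15_7 : chkBlk (gam 15) (gam 7) (gns 15) (blk 15 7) = true := by decide +kernel
theorem b_15_8 : chkBlk (gam 15) (gam 8) (gns 15) (blk 15 8) = true := by decide +kernel
theorem b_15_9 : chkBlk (gam 15) (gam 9) (gns 15) (blk 15 9) = true := by decide +kernel
theorem b_15_10 : chkBlk (gam 15) (gam 10) (gns 15) (blk 15 10) = true := by decide +kernel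
theorem b_15_11 : chkBlk (gam 15) (gam 11) (gns 15) (blk 15 11) = true := by decide +kernel
theorem b_15_12 : chkBlk (gam 15) (gam 12) (gns 15) (blk 15 12) = true := by decide +kernel
theorem b_15_13 : chkBlk (gam 15) (gam 13) (gns 15) (blk 15 13) = true := by decide +kernel
theorem b_15_14 : chkBlk (gam 15) (gam 14) (gns 15) (blk 15 14) = true := by decide +kernel
theorem b_15_15 : chkBlk (gam 15) (gam 15) (gns 15) (blk 15 15) = true := by decide +kernel

theorem b_15 (j : Fin 16) : chkBlk (gam 15) (gam j) (gns 15) (blk 15 j) = true := by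
  fin_cases j
  · exact b_15_0
  · exact b_15_1
  · exact b_15_2
  · exact b_15_3
  · exact b_15_4
  · exact b_15_5
  · exact b_15_6
  · exact b_15_7
  · exact b_15_8
  · exact b_15_9
  · exact b_15_10
  · exact b_15_11
  · exact b_15_12
  · exact b_15_13
  · exact b_15_14
  · exact b_15_15

theorem b_all (i j : Fin 16) : chkBlk (gam i) (gam j) (gns i) (blk i j) = true := by
  fin_cases i
  · exact b_0 j
  · exact b_1 j
  · exact b_2 j
  · exact b_3 j
  · exact b_4 j
  · exact b_5 j
  · exact b_6 j
  · exact b_7 j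
  · exact b_8 j
  · exact b_9 j
  · exact b_10 j
  · exact b_11 j
  · exact b_12 j
  · exact b_13 j
  · exact b_14 j
  · exact b_15 j

end Cfsg.Agent.H293.F23B
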